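import Mathlib.AlgebraicGeometry.Geometrically.Integral
import Mathlib.AlgebraicGeometry.Morphisms.Proper
import Mathlib.AlgebraicGeometry.Morphisms.Flat
import Mathlib.AlgebraicGeometry.Morphisms.UniversallyOpen
import Mathlib.AlgebraicGeometry.Noetherian
import Mathlib.AlgebraicGeometry.PullbackCarrier
import Mathlib.AlgebraicGeometry.AlgClosed.Basic
import Mathlib.CategoryTheory.Monoidal.Cartesian.Over
import Mathlib.CategoryTheory.Monoidal.Cartesian.Grp

set_option autoImplicit false

universe u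

open CategoryTheory Limits MonoidalCategory CartesianMonoidalCategory MonObj AlgebraicGeometry

namespace Groth.Agent.H3.Rigidity

/-- A morphism from an integral universally closed scheme over a field with a rational point into an
affine scheme is constant. -/
theorem eq_proj_comp_section {X Y : Scheme.{u}} {κ : Type u} [Field κ]
    (π : X ⟶ Spec (CommRingCat.of κ)) [UniversallyClosed π] [IsIntegral X]
    (s : Spec (CommRingCat.of κ) ⟶ X) (hs : s ≫ π = 𝟙 _) [IsAffine Y] (h : X ⟶ Y) :
    h = π ≫ s ≫ h := by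
  let F := (isField_of_universallyClosed κ π).toField
  have hinj : Function.Injective s.appTop.hom := by
    intro a b hab
    by_contra hne
    have hu : IsUnit (a - b) := (sub_ne_zero.mpr hne).isUnit
    have hz : s.appTop.hom (a - b) = 0 := by rw [map_sub, hab, sub_self]
    have h0 := hu.map s.appTop.hom
    rw [hz] at h0
    exact not_isUnit_zero h0
  apply ext_of_isAffine
  rw [Scheme.Hom.comp_appTop, Scheme.Hom.comp_appTop]
  ext a
  apply hinj
  have e : π.appTop ≫ s.appTop = 𝟙 _ := by
    rw [← Scheme.Hom.comp_appTop, hs]; simp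
  have := congr($(e).hom (s.appTop.hom (h.appTop.hom a)))
  simpa using this.symm

/-- Rigidity lemma. -/
theorem rigidity {K : Type u} [Field K] (V W U : Over (Spec (CommRingCat.of K)))
    [IsProper V.hom] [GeometricallyIntegral V.hom]
    [LocallyOfFiniteType W.hom] [IsIntegral W.left]
    [IsSeparated U.hom]
    (f : V ⊗ W ⟶ U) (v₀ : 𝟙_ (Over (Spec (CommRingCat.of K))) ⟶ V)
    (w₀ : 𝟙_ (Over (Spec (CommRingCat.of K))) ⟶ W)
    (u₀ : 𝟙_ (Over (Spec (CommRingCat.of K))) ⟶ U)
    (hV : lift (𝟙 V) (toUnit V ≫ w₀) ≫ f = toUnit V ≫ u₀)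
    (hW : lift (toUnit W ≫ v₀) (𝟙 W) ≫ f = toUnit W ≫ u₀) :
    f = toUnit (V ⊗ W) ≫ u₀ := by
  have : IsLocallyNoetherian W.left := LocallyOfFiniteType.isLocallyNoetherian W.hom
  ext1
  let sndm : (V ⊗ W).left ⟶ W.left := pullback.snd V.hom W.hom
  have : IsProper sndm := inferInstanceAs (IsProper (pullback.snd V.hom W.hom))
  have : IsIntegral (V ⊗ W).left := inferInstanceAs (IsIntegral (pullback V.hom W.hom))
  let g : (V ⊗ W).left ⟶ U.left := (toUnit (V ⊗ W) ≫ u₀).left
  show f.left = g
  -- an affine neighbourhood of u₀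
  let pt : (𝟙_ (Over (Spec (CommRingCat.of K)))).left := IsLocalRing.closedPoint K
  obtain ⟨_, ⟨(U₀ : U.left.Opens), hU₀, rfl⟩, hu, -⟩ :=
    U.left.isBasis_affineOpens.exists_subset_of_mem_open (Set.mem_univ (u₀.left pt)) isOpen_univ
  let Z : Set W.left := sndm '' (f.left ⁻¹' (U₀ : Set U.left)ᶜ)
  have hZ : IsClosed Z :=
    sndm.isClosedMap _ (U₀.isOpen.isClosed_compl.preimage f.left.continuous)
  have hw : w₀.left pt ∉ Z := by
    rintro ⟨p, hp, hpw⟩
    have hmem : p ∈ Set.range (V ◁ w₀).left := by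
      rw [Over.whiskerLeft_left, Scheme.Pullback.range_map]
      exact ⟨⟨_, rfl⟩, ⟨pt, hpw.symm⟩⟩
    obtain ⟨y, rfl⟩ := hmem
    apply hp
    have e : (V ◁ w₀) ≫ f = fst _ _ ≫ toUnit V ≫ u₀ := by
      rw [← hV, ← Category.assoc]
      congr 1
      ext : 1
      · simp
      · simp only [whiskerLeft_snd, Category.assoc, lift_snd]
        rw [← Category.assoc, toUnit_unique (fst V (𝟙_ _) ≫ toUnit V) (snd V (𝟙_ _))]
    have el : (V ◁ w₀ ≫ f).left = (fst _ _ ≫ toUnit V ≫ u₀).left := congrArg Over.Hom.left e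
    have e' := congr($el y)
    simp only [Over.comp_left, Scheme.Hom.comp_apply] at e'
    rw [e']
    convert hu using 2
    exact Subsingleton.elim (α := Spec (CommRingCat.of K)) _ _
  let W' : W.left.Opens := ⟨Zᶜ, hZ.isOpen_compl⟩
  have hne : ((sndm ⁻¹ᵁ W') : Set (V ⊗ W).left).Nonempty :=
    ⟨(lift v₀ w₀).left pt, by
      show sndm ((lift v₀ w₀).left pt) ∉ Z
      have : (lift v₀ w₀).left ≫ sndm = w₀.left := congrArg Over.Hom.left (lift_snd v₀ w₀)
      have e := congr($this pt)
      rw [Scheme.Hom.comp_apply] at e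
      rw [e]; exact hw⟩
  refine ext_of_fromSpecResidueField_eq _ _ U.hom _ ((sndm ⁻¹ᵁ W').isOpen.dense hne) ?_ (by
    rw [Over.w f, Over.w (toUnit (V ⊗ W) ≫ u₀)])
  intro x hx
  let w : W.left := sndm x
  let q : Spec (W.left.residueField w) ⟶ W.left := W.left.fromSpecResidueField w
  let T : Over (Spec (CommRingCat.of K)) := Over.mk (q ≫ W.hom)
  let qq : T ⟶ W := Over.homMk q
  -- the fibre
  let π : (V ⊗ T).left ⟶ Spec (CommRingCat.of (W.left.residueField w)) :=
    pullback.snd V.hom (q ≫ W.hom)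
  have : IsProper π := inferInstanceAs (IsProper (pullback.snd V.hom (q ≫ W.hom)))
  have : IsIntegral (V ⊗ T).left := inferInstanceAs (IsIntegral (pullback V.hom (q ≫ W.hom)))
  let inc : V ⊗ T ⟶ V ⊗ W := V ◁ qq
  let h : (V ⊗ T).left ⟶ U.left := (inc ≫ f).left
  let s : T ⟶ V ⊗ T := lift (toUnit T ≫ v₀) (𝟙 T)
  have hs : s.left ≫ π = 𝟙 _ := congrArg Over.Hom.left (lift_snd (toUnit T ≫ v₀) (𝟙 T))
  have hsn : ∀ y, sndm (inc.left y) = w := fun y => by
    rw [← Scheme.Hom.comp_apply]
    have : inc.left ≫ sndm = π ≫ q := by simp [inc, sndm, π, qq, T]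
    rw [this, Scheme.Hom.comp_apply, Scheme.fromSpecResidueField_apply]
  have hrange : Set.range h ⊆ Set.range U₀.ι := by
    rintro _ ⟨y, rfl⟩
    simp only [Scheme.Opens.range_ι]
    by_contra hy
    exact hx ⟨inc.left y, hy, hsn y⟩
  have : IsAffine U₀ := hU₀
  have key := eq_proj_comp_section π s.left hs (IsOpenImmersion.lift U₀.ι h hrange)
  have key' : h = π ≫ s.left ≫ h := by
    have := congr($key ≫ U₀.ι)
    simpa [IsOpenImmersion.lift_fac] using this
  have hconst : s ≫ inc ≫ f = toUnit T ≫ u₀ := by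
    have : s ≫ inc = qq ≫ lift (toUnit W ≫ v₀) (𝟙 W) := by
      ext <;> simp [s, inc]
    rw [← Category.assoc, this, Category.assoc, hW, ← Category.assoc, comp_toUnit]
  -- x factors through the fibre
  let p : Spec ((V ⊗ W).left.residueField x) ⟶ (V ⊗ T).left :=
    pullback.lift ((V ⊗ W).left.fromSpecResidueField x ≫ pullback.fst V.hom W.hom)
      (Spec.map (sndm.residueFieldMap x)) (by
        have : Spec.map (sndm.residueFieldMap x) ≫ W.left.fromSpecResidueField (sndm x) =
            (V ⊗ W).left.fromSpecResidueField x ≫ sndm :=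
          Scheme.Hom.SpecMap_residueFieldMap_fromSpecResidueField _ _
        show _ = _ ≫ q ≫ W.hom
        rw [← Category.assoc (Spec.map _) q W.hom]
        show _ = (Spec.map (sndm.residueFieldMap x) ≫ W.left.fromSpecResidueField (sndm x)) ≫ W.hom
        rw [this, Category.assoc, Category.assoc]
        exact congrArg _ pullback.condition)
  have hp : p ≫ inc.left = (V ⊗ W).left.fromSpecResidueField x := by
    have e₁ : inc.left ≫ pullback.fst V.hom W.hom = pullback.fst V.hom (q ≫ W.hom) :=
      congrArg Over.Hom.left (whiskerLeft_fst V qq)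
    have e₂ : inc.left ≫ pullback.snd V.hom W.hom = pullback.snd V.hom (q ≫ W.hom) ≫ q :=
      congrArg Over.Hom.left (whiskerLeft_snd V qq)
    apply pullback.hom_ext
    · rw [Category.assoc]
      refine (congrArg (p ≫ ·) e₁).trans ?_
      exact pullback.lift_fst _ _ _
    · rw [Category.assoc]
      refine (congrArg (p ≫ ·) e₂).trans ?_
      refine (Category.assoc _ _ _).symm.trans ?_
      refine (congrArg (· ≫ q) (pullback.lift_snd _ _ _)).trans ?_
      exact Scheme.Hom.SpecMap_residueFieldMap_fromSpecResidueField _ _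
  rw [← hp, Category.assoc, Category.assoc]
  congr 1
  show h = _
  rw [key']
  have : s.left ≫ h = T.hom ≫ u₀.left := by
    have := congr(($hconst).left)
    simpa [h] using this
  rw [this]
  simp [g, π, T, inc]
  exact (pullback.condition_assoc _).symm

end Groth.Agent.H3.Rigidity
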