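import Groth.Prelude.Def_ThetaGrp
import Groth.Prelude.Def_PicGrp
import Groth.Agent.Lib.TensorMod.Pullback

set_option autoImplicit false

universe u

open CategoryTheory MonoidalCategory CartesianMonoidalCategory MonObj AlgebraicGeometry

namespace Groth.Agent.H3.PicCalc

/-- Invertible modules on a one-point scheme are trivial. -/
theorem isInvertible_subsingleton {Y : Scheme.{u}} [Subsingleton Y] [Nonempty Y] {L : Y.Modules}
    (hL : PicF.IsInvertible L) : Nonempty (L ≅ Coh.structureModule Y) := by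
  obtain ⟨y⟩ := ‹Nonempty Y›
  obtain ⟨U, hU, ⟨e⟩⟩ := hL y
  have hUtop : U = ⊤ := by
    ext z
    simp [Subsingleton.elim z y, hU]
  subst hUtop
  let j : Y ⟶ (⊤ : Y.Opens).toScheme := Y.topIso.inv
  have hj : j ≫ (⊤ : Y.Opens).ι = 𝟙 Y := by simp [j]
  exact ⟨((Scheme.Modules.pullbackId Y).app L).symm ≪≫
    (Scheme.Modules.pullbackCongr hj.symm).app L ≪≫
    (Scheme.Modules.pullbackComp j _).symm.app L ≪≫
    (Scheme.Modules.pullback j).mapIso
      ((Scheme.Modules.restrictFunctorIsoPullback _).symm.app L ≪≫ e) ≪≫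
    PicLoc.pullbackStructureIso j⟩

variable [∀ Y : Scheme.{u}, PicGrp.Law Y]
variable {S : Scheme.{u}}

/-- Pullback of invertible classes along a morphism of `S`-schemes. -/
noncomputable def ph {X Y : Over S} (f : X ⟶ Y) : PicLoc.PicSet Y.left →* PicLoc.PicSet X.left :=
  PicGrp.pullHom f.left (Groth.Agent.Lib.TensorMod.Pullback.pullMul f.left)

theorem ph_val {X Y : Over S} (f : X ⟶ Y) (c : PicLoc.PicSet Y.left) :
    (ph f c).1 = PicF.pullCl f.left c.1 := rfl

theorem ph_comp {X Y Z : Over S} (f : X ⟶ Y) (g : Y ⟶ Z) (c : PicLoc.PicSet Z.left) :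
    ph (f ≫ g) c = ph f (ph g c) :=
  Subtype.ext (PicLoc.pullCl_comp f.left g.left c.1)

theorem ph_id {X : Over S} (c : PicLoc.PicSet X.left) : ph (𝟙 X) c = c :=
  Subtype.ext (PicLoc.pullCl_id c.1)

theorem cl_tensor {Y : Scheme.{u}} {L M : Y.Modules} {a b : PicLoc.PicSet Y}
    (ha : PicF.cl L = a.1) (hb : PicF.cl M = b.1) :
    PicF.cl (CohB1.tensorMod L M) = (a * b).1 := by
  rw [PicGrp.mul_val, ← ha, ← hb]; rfl

theorem cl_pullback {X Y : Over S} (f : X ⟶ Y) {L : Y.left.Modules} {a : PicLoc.PicSet Y.left}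
    (ha : PicF.cl L = a.1) : PicF.cl ((Scheme.Modules.pullback f.left).obj L) = (ph f a).1 := by
  rw [ph_val, ← ha]; rfl

theorem iso_iff {Y : Scheme.{u}} {L M : Y.Modules} {a b : PicLoc.PicSet Y}
    (ha : PicF.cl L = a.1) (hb : PicF.cl M = b.1) : Nonempty (L ≅ M) ↔ a = b := by
  rw [← PicGrp.cl_eq_cl_iff, ha, hb]
  exact Subtype.ext_iff.symm

theorem eq_one_of_subsingleton {Y : Scheme.{u}} [Subsingleton Y] [Nonempty Y] (c : PicLoc.PicSet Y) :
    c = 1 := by
  obtain ⟨L, hL, rfl⟩ := PicGrp.exists_eq_cls c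
  exact (PicGrp.cls_eq_one_iff hL).mpr (isInvertible_subsingleton hL)

omit [∀ Y : Scheme.{u}, PicGrp.Law Y] in
theorem comp_transl_fst {A : Over S} [GrpObj A] {T : Over S} (x : T ⟶ A) :
    (A ◁ x) ≫ μ[A] = ThetaGrp.transl A x ≫ fst A T := by
  rw [ThetaGrp.transl_fst, Hom.mul_def]
  congr 1


variable (A : Over S) [GrpObj A]

/-- `x` translates the class `l` to itself up to a class from the base. -/
def TransTriv (l : PicLoc.PicSet A.left) {T : Over S} (x : T ⟶ A) (n : PicLoc.PicSet T.left) : Prop :=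
  ph (ThetaGrp.transl A x ≫ fst A T) l = ph (fst A T) l * ph (snd A T) n

theorem mumford_iff {L : A.left.Modules} (hL : PicF.IsInvertible L) {T : Over S} (x : T ⟶ A) :
    ThetaGrp.IsMumfordTriv A L x ↔ ∃ n, TransTriv A (PicGrp.cls L hL) x n := by
  have key : ∀ (M : T.left.Modules) (hM : PicF.IsInvertible M),
      AgPol.IsLambdaSheaf ((A ◁ x) ≫ μ[A]).left (fst A T).left (snd A T ≫ x).left L
        ((Scheme.Modules.pullback (snd A T).left).obj M) ↔
      TransTriv A (PicGrp.cls L hL) x (PicGrp.cls M hM * ph x (PicGrp.cls L hL)) := by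
    intro M hM
    unfold AgPol.IsLambdaSheaf TransTriv
    rw [iso_iff (cl_tensor (cl_tensor
        (cl_pullback (snd A T) (a := PicGrp.cls M hM) rfl)
        (cl_pullback (fst A T) (a := PicGrp.cls L hL) rfl))
        (cl_pullback (snd A T ≫ x) (a := PicGrp.cls L hL) rfl))
      (cl_pullback ((A ◁ x) ≫ μ[A]) (a := PicGrp.cls L hL) rfl),
      comp_transl_fst, map_mul, ph_comp (snd A T) x]
    constructor <;> intro h
    · rw [← h]; ac_rfl
    · rw [h]; ac_rfl
  constructor
  · rintro ⟨M, hM, h⟩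
    exact ⟨_, (key M hM).mp h⟩
  · rintro ⟨n, hn⟩
    obtain ⟨M, hM, e⟩ := PicGrp.exists_eq_cls (n * (ph x (PicGrp.cls L hL))⁻¹)
    refine ⟨M, hM, (key M hM).mpr ?_⟩
    rwa [← e, inv_mul_cancel_right]

variable {A}

theorem TransTriv.mul {l : PicLoc.PicSet A.left} {T : Over S} {x y : T ⟶ A}
    {m n : PicLoc.PicSet T.left} (hx : TransTriv A l x m) (hy : TransTriv A l y n) :
    TransTriv A l (x * y) (m * n) := by
  unfold TransTriv at *
  rw [ThetaGrp.transl_mul, Category.assoc, ph_comp, hy, map_mul, ← ph_comp, hx, ← ph_comp,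
    ThetaGrp.transl_snd, map_mul, _root_.mul_assoc]

theorem TransTriv.one (l : PicLoc.PicSet A.left) (T : Over S) :
    TransTriv A l (1 : T ⟶ A) 1 := by
  unfold TransTriv
  rw [ThetaGrp.transl_one, Category.id_comp, map_one, _root_.mul_one]

theorem TransTriv.inv {l : PicLoc.PicSet A.left} {T : Over S} {x : T ⟶ A}
    {m : PicLoc.PicSet T.left} (hx : TransTriv A l x m) : TransTriv A l x⁻¹ m⁻¹ := by
  unfold TransTriv at *
  have h := congrArg (ph (ThetaGrp.transl A x⁻¹)) hx
  rw [← ph_comp, ← Category.assoc, ← ThetaGrp.transl_mul, inv_mul_cancel, ThetaGrp.transl_one,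
    Category.id_comp, map_mul, ← ph_comp _ (snd A T), ThetaGrp.transl_snd, ← ph_comp] at h
  rw [map_inv, h]
  simp

/-- Restricting to `{e} × T` determines the class on the base. -/
theorem TransTriv.eq_pullback [Subsingleton S] [Nonempty S] {l : PicLoc.PicSet A.left}
    {T : Over S} {x : T ⟶ A} {n : PicLoc.PicSet T.left} (hx : TransTriv A l x n) :
    n = ph x l := by
  have h := congrArg (ph (lift (toUnit T ≫ η[A]) (𝟙 T))) hx
  rw [map_mul, ← ph_comp, ← ph_comp, ← ph_comp, lift_fst, lift_snd, ph_id, ph_comp,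
    ThetaGrp.transl_fst, ph_comp (toUnit T)] at h
  have e : lift (toUnit T ≫ η[A]) (𝟙 T) ≫ (fst A T * (snd A T ≫ x)) = x := by
    rw [MonObj.comp_mul, lift_fst, lift_snd_assoc, Category.id_comp, MonObj.one_eq_one,
      MonObj.comp_one, _root_.one_mul]
  rw [← ph_comp, e] at h
  haveI : Subsingleton (𝟙_ (Over S)).left := ‹Subsingleton S›
  haveI : Nonempty (𝟙_ (Over S)).left := ‹Nonempty S›
  rw [eq_one_of_subsingleton (ph η[A] l), map_one, _root_.one_mul] at h
  exact h.symm

end Groth.Agent.H3.PicCalc
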