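import Groth.Agent.Lib.Cube.OverField
import Groth.Agent.H3.PicCalc
import Groth.Agent.Lib.TensorMod.Invertible

/-!
# The relation of the theorem of the cube for three morphisms into an abelian variety
-/

set_option autoImplicit false

universe u

open CategoryTheory CategoryTheory.Limits MonoidalCategory CartesianMonoidalCategory MonObj GrpObj
open AlgebraicGeometry

namespace Groth.Agent.H3.CubeRel

noncomputable section

local instance (Y : Scheme.{u}) : PicGrp.Law Y := Groth.Agent.Lib.TensorMod.Invertible.law Y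

variable {k : Type u} [Field k] {A : Over (Spec (CommRingCat.of k))} [GrpObj A]

theorem ph_one (V : Over (Spec (CommRingCat.of k))) (c : PicLoc.PicSet A.left) :
    PicCalc.ph (1 : V ⟶ A) c = 1 := by
  haveI : Subsingleton (𝟙_ (Over (Spec (CommRingCat.of k)))).left :=
    inferInstanceAs (Subsingleton (Spec (CommRingCat.of k)))
  haveI : Nonempty (𝟙_ (Over (Spec (CommRingCat.of k)))).left :=
    inferInstanceAs (Nonempty (Spec (CommRingCat.of k)))
  rw [Hom.one_def, PicCalc.ph_comp, PicCalc.eq_one_of_subsingleton (PicCalc.ph η[A] c), map_one]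

/-- The defect of the cube relation for three morphisms. -/
def defect {V : Over (Spec (CommRingCat.of k))} (f g h : V ⟶ A) (c : PicLoc.PicSet A.left) :
    PicLoc.PicSet V.left :=
  PicCalc.ph (f * g * h) c * PicCalc.ph f c * PicCalc.ph g c * PicCalc.ph h c *
    (PicCalc.ph (f * g) c * PicCalc.ph (f * h) c * PicCalc.ph (g * h) c)⁻¹

theorem ph_defect {V V' : Over (Spec (CommRingCat.of k))} (s : V' ⟶ V) (f g h : V ⟶ A)
    (c : PicLoc.PicSet A.left) :
    PicCalc.ph s (defect f g h c) = defect (s ≫ f) (s ≫ g) (s ≫ h) c := by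
  simp only [defect, map_mul, map_inv, ← PicCalc.ph_comp, MonObj.comp_mul]

theorem defect_one_left {V : Over (Spec (CommRingCat.of k))} (g h : V ⟶ A) (c : PicLoc.PicSet A.left) :
    defect 1 g h c = 1 := by
  simp only [defect, _root_.one_mul, ph_one, _root_.mul_one]
  rw [mul_inv_eq_one]
  ac_rfl

theorem defect_one_mid {V : Over (Spec (CommRingCat.of k))} (f h : V ⟶ A) (c : PicLoc.PicSet A.left) :
    defect f 1 h c = 1 := by
  simp only [defect, _root_.one_mul, ph_one, _root_.mul_one]
  rw [mul_inv_eq_one]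
  ac_rfl

theorem defect_one_right {V : Over (Spec (CommRingCat.of k))} (f g : V ⟶ A) (c : PicLoc.PicSet A.left) :
    defect f g 1 c = 1 := by
  simp only [defect, ph_one, _root_.mul_one]
  rw [mul_inv_eq_one]

variable [IsProper A.hom] [GeometricallyIntegral A.hom]

/-- The theorem of the cube on classes. -/
theorem defect_eq_one {V : Over (Spec (CommRingCat.of k))} (f g h : V ⟶ A)
    (c : PicLoc.PicSet A.left) : defect f g h c = 1 := by
  haveI : GeometricallyConnected A.hom := Lib.Cube.OverField.geometricallyConnected_of_irreducible A.hom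
  let p : A ⊗ A ⊗ A ⟶ A := fst A (A ⊗ A)
  let q : A ⊗ A ⊗ A ⟶ A := snd A (A ⊗ A) ≫ fst A A
  let r : A ⊗ A ⊗ A ⟶ A := snd A (A ⊗ A) ≫ snd A A
  suffices huniv : defect p q r c = 1 by
    have e := ph_defect (lift f (lift g h)) p q r c
    rw [huniv, map_one] at e
    simp only [p, q, r, lift_fst, lift_snd_assoc, lift_snd] at e
    exact e.symm
  obtain ⟨L, hL, hLc⟩ := PicGrp.exists_eq_cls (defect p q r c)
  rw [hLc, PicGrp.cls_eq_one_iff hL]
  have key : ∀ {V' : Over (Spec (CommRingCat.of k))} (s : V' ⟶ A ⊗ A ⊗ A),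
      defect (s ≫ p) (s ≫ q) (s ≫ r) c = 1 →
      Nonempty ((Scheme.Modules.pullback s.left).obj L ≅ Coh.structureModule V'.left) := fun s hs =>
    (PicCalc.iso_iff (PicCalc.cl_pullback s (a := PicGrp.cls L hL) rfl)
      (b := (1 : PicLoc.PicSet _)) PicGrp.one_val.symm).2 (by rw [← hLc, ph_defect, hs])
  have hone : ∀ W : Over (Spec (CommRingCat.of k)), toUnit W ≫ η[A] = 1 := fun W => Hom.one_def.symm
  refine Lib.Cube.OverField.nonempty_iso η[A] η[A] η[A] hL (key _ ?_) (key _ ?_) (key _ ?_)
  · simp only [p, q, r, lift_fst, lift_snd_assoc, hone, Category.id_comp]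
    exact defect_one_left _ _ c
  · simp only [p, q, r, lift_fst, lift_snd_assoc, lift_snd, hone]
    exact defect_one_mid _ _ c
  · simp only [p, q, r, lift_fst, lift_snd_assoc, lift_snd, hone]
    exact defect_one_right _ _ c

theorem cube_rel {V : Over (Spec (CommRingCat.of k))} (f g h : V ⟶ A) (c : PicLoc.PicSet A.left) :
    PicCalc.ph (f * g * h) c * PicCalc.ph f c * PicCalc.ph g c * PicCalc.ph h c =
      PicCalc.ph (f * g) c * PicCalc.ph (f * h) c * PicCalc.ph (g * h) c :=
  mul_inv_eq_one.1 (defect_eq_one f g h c)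

end

end Groth.Agent.H3.CubeRel
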