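import Groth.Agent.H3.CubeRel
import Groth.Agent.Lib.Cube.SeesawCons
import Mathlib.AlgebraicGeometry.AlgClosed.Basic
import Mathlib.AlgebraicGeometry.Group.Abelian

/-!
# Translation invariant classes are additive
-/

set_option autoImplicit false

universe u

open CategoryTheory CategoryTheory.Limits MonoidalCategory CartesianMonoidalCategory MonObj GrpObj
open AlgebraicGeometry

namespace Groth.Agent.H3.TransInv

noncomputable section

local instance (Y : Scheme.{u}) : PicGrp.Law Y := Groth.Agent.Lib.TensorMod.Invertible.law Y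

variable {k : Type u} [Field k] [IsAlgClosed k] {A : Over (Spec (CommRingCat.of k))} [GrpObj A]

/-- The class is invariant under translations by rational points. -/
def Inv (c : PicLoc.PicSet A.left) : Prop :=
  ∀ a : 𝟙_ (Over (Spec (CommRingCat.of k))) ⟶ A, PicCalc.ph (𝟙 A * (toUnit A ≫ a)) c = c

omit [IsAlgClosed k] in
theorem ph_const {V : Over (Spec (CommRingCat.of k))} (a : 𝟙_ (Over (Spec (CommRingCat.of k))) ⟶ A)
    (c : PicLoc.PicSet A.left) : PicCalc.ph (toUnit V ≫ a) c = 1 := by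
  haveI : Subsingleton (𝟙_ (Over (Spec (CommRingCat.of k)))).left :=
    inferInstanceAs (Subsingleton (Spec (CommRingCat.of k)))
  haveI : Nonempty (𝟙_ (Over (Spec (CommRingCat.of k)))).left :=
    inferInstanceAs (Nonempty (Spec (CommRingCat.of k)))
  rw [PicCalc.ph_comp, PicCalc.eq_one_of_subsingleton (PicCalc.ph a c), map_one]

variable [IsProper A.hom] [GeometricallyIntegral A.hom]

/-- A class invariant under translations is primitive. -/
theorem mul_eq (c : PicLoc.PicSet A.left) (h : Inv c) :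
    PicCalc.ph (fst A A * snd A A) c = PicCalc.ph (fst A A) c * PicCalc.ph (snd A A) c := by
  let d := PicCalc.ph (fst A A * snd A A) c * (PicCalc.ph (fst A A) c * PicCalc.ph (snd A A) c)⁻¹
  suffices hd : d = 1 from mul_inv_eq_one.1 hd
  obtain ⟨D, hD, hDc⟩ := PicGrp.exists_eq_cls d
  let f := (snd A A).left
  haveI : Flat A.hom := inferInstance
  haveI : IsProper f := inferInstanceAs (IsProper (pullback.snd A.hom A.hom))
  haveI : Flat f := inferInstanceAs (Flat (pullback.snd A.hom A.hom))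
  haveI : GeometricallyIntegral f := inferInstanceAs (GeometricallyIntegral (pullback.snd A.hom A.hom))
  haveI : IsLocallyNoetherian A.left := LocallyOfFiniteType.isLocallyNoetherian A.hom
  haveI : JacobsonSpace A.left := LocallyOfFiniteType.jacobsonSpace A.hom
  haveI : IsIntegral A.left := GeometricallyIntegral.geometrically_isIntegral (f := A.hom)
    (𝟙 (Spec (CommRingCat.of k))) (𝟙 A.left) A.hom (IsPullback.of_horiz_isIso ⟨by simp⟩)
  obtain ⟨hH, -⟩ := Lib.Cube.SeesawCons.h0_of_geometricallyIntegral f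
  have hclosed : ∀ y : A.left, IsClosed ({y} : Set A.left) →
      Nonempty ((Scheme.Modules.pullback (f.fiberι y)).obj D ≅ Coh.structureModule (f.fiber y)) := by
    intro y hy
    let a : 𝟙_ (Over (Spec (CommRingCat.of k))) ⟶ A :=
      Over.homMk (pointOfClosedPoint A.hom y hy) (pointOfClosedPoint_comp A.hom y hy)
    let s : A ⟶ A ⊗ A := lift (𝟙 A) (toUnit A ≫ a)
    have hs : PicCalc.ph s d = 1 := by
      simp only [d, map_mul, map_inv, ← PicCalc.ph_comp, MonObj.comp_mul, s, lift_fst, lift_snd,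
        ph_const, h a, PicCalc.ph_id, _root_.mul_one, mul_inv_cancel]
    obtain ⟨i⟩ : Nonempty ((Scheme.Modules.pullback s.left).obj D ≅ Coh.structureModule A.left) :=
      (PicCalc.iso_iff (PicCalc.cl_pullback s (a := PicGrp.cls D hD) rfl)
        (b := (1 : PicLoc.PicSet _)) PicGrp.one_val.symm).2 (by rw [← hDc, hs])
    let r : f.fiber y ⟶ A.left := f.fiberι y ≫ (fst A A).left
    have hr : r ≫ s.left = f.fiberι y := by
      apply pullback.hom_ext
      · show (r ≫ s.left) ≫ (fst A A).left = f.fiberι y ≫ (fst A A).left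
        rw [Category.assoc, ← Over.comp_left, lift_fst, Over.id_left, Category.comp_id]
      · show (r ≫ s.left) ≫ (snd A A).left = f.fiberι y ≫ f
        rw [Category.assoc, ← Over.comp_left, lift_snd, Over.comp_left, f.fiber_fac y]
        show (f.fiberι y ≫ (fst A A).left) ≫ (toUnit A).left ≫ pointOfClosedPoint A.hom y hy = _
        have e : A.left.fromSpecResidueField y =
            (A.left.fromSpecResidueField y ≫ A.hom) ≫ pointOfClosedPoint A.hom y hy := by
          rw [← SpecMap_residueFieldIsoBase_inv A.hom y hy, pointOfClosedPoint, ← Category.assoc,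
            ← Spec.map_comp, Iso.hom_inv_id, Spec.map_id, Category.id_comp]
        rw [e, ← Category.assoc (f.fiberι y ≫ _), ← Category.assoc, ← Category.assoc]
        congr 1
        rw [← f.fiber_fac y]
        simp only [Category.assoc]
        congr 1
        exact (Over.w (fst A A)).trans (Over.w (snd A A)).symm
    exact ⟨(Scheme.Modules.pullbackCongr hr.symm).app D ≪≫
      ((Scheme.Modules.pullbackComp r s.left).app D).symm ≪≫
      (Scheme.Modules.pullback r).mapIso i ≪≫ PicLoc.pullbackStructureIso r⟩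
  obtain ⟨E, hE, ⟨e⟩⟩ := Lib.Cube.SeesawGlobal.exists_of_fibres f hH D hD
    (fun y => Lib.Cube.SeesawCons.trivial_of_closed_fibres f D hD hclosed y)
  have he : d = PicCalc.ph (snd A A) (PicGrp.cls E hE) := by
    rw [hDc]
    exact (PicCalc.iso_iff (a := PicGrp.cls D hD) rfl
      (PicCalc.cl_pullback (snd A A) (a := PicGrp.cls E hE) rfl)).1 ⟨e.symm⟩
  have h0 := congrArg (PicCalc.ph (lift (toUnit A ≫ η[A]) (𝟙 A))) he
  rw [← PicCalc.ph_comp, lift_snd, PicCalc.ph_id] at h0
  have hone : toUnit A ≫ η[A] = 1 := Hom.one_def.symm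
  simp only [d, map_mul, map_inv, ← PicCalc.ph_comp, MonObj.comp_mul, lift_fst, lift_snd] at h0
  rw [hone, _root_.one_mul, CubeRel.ph_one, _root_.one_mul, mul_inv_cancel] at h0
  rw [he, ← h0, map_one]

omit [IsAlgClosed k] [IsProper A.hom] [GeometricallyIntegral A.hom] in
/-- A primitive class is invariant under translations. -/
theorem inv_of_mul_eq (c : PicLoc.PicSet A.left)
    (h : PicCalc.ph (fst A A * snd A A) c = PicCalc.ph (fst A A) c * PicCalc.ph (snd A A) c) :
    Inv c := fun a => by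
  have h' := congrArg (PicCalc.ph (lift (𝟙 A) (toUnit A ≫ a))) h
  simp only [map_mul, ← PicCalc.ph_comp, MonObj.comp_mul, lift_fst, lift_snd, ph_const,
    PicCalc.ph_id, _root_.mul_one] at h'
  exact h'

/-- Pullback of an invariant class along a sum. -/
theorem ph_mul {V : Over (Spec (CommRingCat.of k))} (x y : V ⟶ A) (c : PicLoc.PicSet A.left)
    (h : Inv c) : PicCalc.ph (x * y) c = PicCalc.ph x c * PicCalc.ph y c := by
  have h' := congrArg (PicCalc.ph (lift x y)) (mul_eq c h)
  simp only [map_mul, ← PicCalc.ph_comp, MonObj.comp_mul, lift_fst, lift_snd] at h'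
  exact h'

/-- The defect of a class under a translation is invariant. -/
theorem inv_defect (c : PicLoc.PicSet A.left) (a : 𝟙_ (Over (Spec (CommRingCat.of k))) ⟶ A) :
    Inv (PicCalc.ph (𝟙 A * (toUnit A ≫ a)) c * c⁻¹) := fun b => by
  have h := CubeRel.cube_rel (𝟙 A) (toUnit A ≫ b) (toUnit A ≫ a) c
  rw [← MonObj.comp_mul (toUnit A) b a, ph_const, ph_const, ph_const, PicCalc.ph_id,
    _root_.mul_one, _root_.mul_one, _root_.mul_one] at h
  have e : (𝟙 A * (toUnit A ≫ b)) ≫ (𝟙 A * (toUnit A ≫ a)) =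
      𝟙 A * (toUnit A ≫ b) * (toUnit A ≫ a) := by
    rw [MonObj.comp_mul (𝟙 A * (toUnit A ≫ b)), Category.comp_id, comp_toUnit_assoc]
  rw [map_mul, map_inv, ← PicCalc.ph_comp, e, mul_inv_eq_iff_eq_mul, eq_comm, mul_right_comm,
    mul_inv_eq_iff_eq_mul, h]
  exact mul_comm _ _

/-- An invariant class is sent to its inverse by the inversion. -/
theorem ph_inv_of_inv (c : PicLoc.PicSet A.left) (h : Inv c) :
    PicCalc.ph (𝟙 A)⁻¹ c = c⁻¹ := by
  have h' := ph_mul (𝟙 A) (𝟙 A)⁻¹ c h
  rw [mul_inv_cancel, CubeRel.ph_one, PicCalc.ph_id] at h'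
  exact eq_inv_of_mul_eq_one_right h'.symm

/-- The inversion preserves classes modulo invariant ones. -/
theorem phi_inv (c : PicLoc.PicSet A.left) (a : 𝟙_ (Over (Spec (CommRingCat.of k))) ⟶ A) :
    PicCalc.ph (𝟙 A * (toUnit A ≫ a)) (PicCalc.ph (𝟙 A)⁻¹ c) * c =
      PicCalc.ph (𝟙 A)⁻¹ c * PicCalc.ph (𝟙 A * (toUnit A ≫ a)) c := by
  haveI := isCommMonObj_of_isProper_of_geometricallyIntegral A
  let t := 𝟙 A * (toUnit A ≫ a)
  let t' := 𝟙 A * (toUnit A ≫ a⁻¹)
  have hcomm : t ≫ (𝟙 A)⁻¹ = (𝟙 A)⁻¹ ≫ t' := by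
    rw [GrpObj.comp_inv, Category.comp_id]
    simp only [t, t', MonObj.comp_mul, Category.comp_id, comp_toUnit_assoc, GrpObj.comp_inv,
      _root_.mul_inv_rev]
    exact mul_comm _ _
  have hψ : PicCalc.ph (𝟙 A)⁻¹ (PicCalc.ph t' c * c⁻¹) = (PicCalc.ph t' c * c⁻¹)⁻¹ :=
    ph_inv_of_inv _ (inv_defect c a⁻¹)
  have hsq : PicCalc.ph t c * PicCalc.ph t' c = c * c := by
    have h := CubeRel.cube_rel (𝟙 A) (toUnit A ≫ a) (toUnit A ≫ a⁻¹) c
    rw [← MonObj.comp_mul (toUnit A) a a⁻¹, ph_const, ph_const, ph_const, PicCalc.ph_id,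
      _root_.mul_one, _root_.mul_one, _root_.mul_one] at h
    rw [← h, _root_.mul_assoc (𝟙 A), ← MonObj.comp_mul, mul_inv_cancel, MonObj.comp_one,
      _root_.mul_one, PicCalc.ph_id]
  rw [← PicCalc.ph_comp, hcomm, PicCalc.ph_comp]
  rw [map_mul, map_inv, mul_inv_eq_iff_eq_mul] at hψ
  rw [hψ, show PicCalc.ph (𝟙 A * (toUnit A ≫ a)) c = c * c * (PicCalc.ph t' c)⁻¹ from
    eq_mul_inv_of_mul_eq hsq]
  simp only [_root_.mul_inv_rev, _root_.inv_inv]
  ac_rfl

end

end Groth.Agent.H3.TransInv
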