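import Groth.Agent.H3.Cartesian
import Groth.Agent.Lib.TensorMod.Gen
import Groth.Prelude.Def_TwSh
import Mathlib.AlgebraicGeometry.Geometrically.Integral
import Mathlib.AlgebraicGeometry.Morphisms.Proper
import Mathlib.AlgebraicGeometry.Morphisms.Flat

/-!
Scalars in the category of pairs (scheme, module), and functions on a product with a scheme having
only constant functions.
-/

set_option autoImplicit false

universe u

open CategoryTheory Limits MonoidalCategory CartesianMonoidalCategory MonObj AlgebraicGeometry Opposite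
open Pseudofunctor Bicategory TopologicalSpace
open Groth.Agent.Lib.TensorMod.Dual Groth.Agent.Lib.TensorMod.Gen

namespace Groth.Agent.H3.Scalars

section Modules

variable {X Y : Scheme.{u}}

theorem scalarEnd_comp {M N : X.Modules} (r : Γ(X, ⊤)) (φ : M ⟶ N) :
    TwSh.scalarEnd M r ≫ φ = φ ≫ TwSh.scalarEnd N r := by
  ext U x
  exact φ.app_smul (TwSh.resTop X U r) x

theorem scalarEnd_one (M : X.Modules) : TwSh.scalarEnd M 1 = 𝟙 M := by
  ext U x
  show TwSh.resTop X U 1 • x = x
  rw [map_one, one_smul]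

theorem scalarEnd_mul (M : X.Modules) (r s : Γ(X, ⊤)) :
    TwSh.scalarEnd M r ≫ TwSh.scalarEnd M s = TwSh.scalarEnd M (s * r) := by
  ext U x
  show TwSh.resTop X U s • TwSh.resTop X U r • x = TwSh.resTop X U (s * r) • x
  rw [map_mul, smul_smul]

theorem pullback_scalarEnd (f : X ⟶ Y) (M : Y.Modules) (r : Γ(Y, ⊤)) :
    (Scheme.Modules.pullback f).map (TwSh.scalarEnd M r) =
      TwSh.scalarEnd ((Scheme.Modules.pullback f).obj M) (f.appTop.hom r) := by
  let adj := Scheme.Modules.pullbackPushforwardAdjunction f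
  apply (adj.homEquiv _ _).injective
  rw [Adjunction.homEquiv_unit, Adjunction.homEquiv_unit]
  refine (adj.unit.naturality (TwSh.scalarEnd M r)).symm.trans ?_
  ext U x
  refine ((adj.unit.app M).app_smul (TwSh.resTop Y U r) x).trans ?_
  refine congrArg (fun c : Γ(X, f ⁻¹ᵁ U) => c • (show Γ((Scheme.Modules.pullback f).obj M, f ⁻¹ᵁ U)
    from (adj.unit.app M).app U x)) (a₁ := f.app U (TwSh.resTop Y U r))
    (a₂ := TwSh.resTop X (f ⁻¹ᵁ U) (f.appTop.hom r)) ?_
  exact congr($(f.naturality (homOfLE (le_top (a := U))).op).hom r)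

theorem exists_scalarEnd_eq {M : X.Modules} (hM : PicF.IsInvertible M) (φ : M ⟶ M) :
    ∃ r : Γ(X, ⊤), φ = TwSh.scalarEnd M r := by
  choose U e hU he using isInvertible_iff.1 hM
  choose a ha using fun x => (he x (U x) le_rfl).2 (φ.app (U x) (e x))
  have ha' : ∀ (x : X) (V : X.Opens) (h : V ≤ U x),
      X.presheaf.map (homOfLE h).op (a x) • rs M h (e x) = φ.app V (rs M h (e x)) := by
    intro x V h
    refine ((Scheme.Modules.map_smul M (homOfLE h) _ _).symm.trans ?_).trans
      (PresheafOfModules.naturality_apply φ.val (homOfLE h).op (e x)).symm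
    refine congrArg (rs M h) ?_
    have h0 := ha x
    simp only [rs_self] at h0
    exact h0
  have compat : ∀ x y, X.presheaf.map (homOfLE (inf_le_left : U x ⊓ U y ≤ U x)).op (a x) =
      X.presheaf.map (homOfLE (inf_le_right : U x ⊓ U y ≤ U y)).op (a y) := by
    intro x y
    set V := U x ⊓ U y
    obtain ⟨c, hc⟩ := (he x V inf_le_left).2 (rs M inf_le_right (e y))
    apply (he y V inf_le_right).1
    show _ • rs M inf_le_right (e y) = _ • rs M inf_le_right (e y)
    rw [ha', ← hc, smul_smul, mul_comm, ← smul_smul, ha', φ.app_smul]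
  obtain ⟨r, hr, -⟩ := X.sheaf.existsUnique_gluing' U ⊤ (fun x => homOfLE le_top)
    (fun z _ => Opens.mem_iSup.mpr ⟨z, hU z⟩) a compat
  refine ⟨r, ?_⟩
  ext W m
  show φ.app W m = TwSh.resTop X W r • m
  have : PreservesLimits (forget AddCommGrpCat.{u}) := inferInstance
  refine TopCat.Sheaf.eq_of_locally_eq' ⟨M.presheaf, M.isSheaf⟩ (fun x => W ⊓ U x) W
    (fun x => homOfLE inf_le_left) (fun z hz => Opens.mem_iSup.mpr ⟨z, hz, hU z⟩) _ _ fun x => ?_
  show rs M inf_le_left (φ.app W m) = rs M inf_le_left (TwSh.resTop X W r • m)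
  obtain ⟨c, hc⟩ := (he x (W ⊓ U x) inf_le_right).2 (rs M inf_le_left m)
  have h1 : rs M (inf_le_left : W ⊓ U x ≤ W) (φ.app W m) = φ.app _ (rs M inf_le_left m) :=
    (PresheafOfModules.naturality_apply φ.val (homOfLE inf_le_left).op m).symm
  rw [h1, rs_smul, ← hc, φ.app_smul, ← ha', smul_smul, smul_smul, mul_comm]
  congr 2
  rw [← hr x]
  show (X.presheaf.map _ ≫ X.presheaf.map _).hom r = (X.presheaf.map _ ≫ X.presheaf.map _).hom r
  rw [← X.presheaf.map_comp, ← X.presheaf.map_comp]
  rfl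

theorem scalarEnd_injective {M : X.Modules} (hM : PicF.IsInvertible M) {r s : Γ(X, ⊤)}
    (h : TwSh.scalarEnd M r = TwSh.scalarEnd M s) : r = s := by
  choose U e hU he using isInvertible_iff.1 hM
  refine X.sheaf.eq_of_locally_eq' U ⊤ (fun x => homOfLE le_top)
    (fun z _ => Opens.mem_iSup.mpr ⟨z, hU z⟩) _ _ fun x => ?_
  apply (he x (U x) le_rfl).1
  show TwSh.resTop X (U x) r • _ = TwSh.resTop X (U x) s • _
  exact congr($(h).app (U x) (rs M le_rfl (e x)))

end Modules

section Pairs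

variable {a b c : CoGrothendieck (ThetaGrp.modPF.{u})}

/-- Multiplication by a global function on the fibre of an object. -/
noncomputable def sm (a : CoGrothendieck (ThetaGrp.modPF.{u})) (r : Γ(a.base, ⊤)) :
    a.fiber ⟶ a.fiber :=
  TwSh.scalarEnd (X := a.base) a.fiber r

theorem sm_one : sm a 1 = 𝟙 a.fiber := scalarEnd_one (X := a.base) a.fiber

theorem sm_mul (r s : Γ(a.base, ⊤)) : sm a r ≫ sm a s = sm a (s * r) :=
  scalarEnd_mul (X := a.base) a.fiber r s

theorem fiber_map_sm (s : Γ(b.base, ⊤)) (h : a ⟶ b) :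
    h.fiber ≫ ((ThetaGrp.modPF.{u}).map h.base.op.toLoc).toFunctor.map (sm b s) =
      sm a (h.base.appTop.hom s) ≫ h.fiber := by
  have e := (scalarEnd_comp (X := a.base) (h.base.appTop.hom s) h.fiber).symm
  exact (congrArg (fun t => CategoryStruct.comp h.fiber t)
    (pullback_scalarEnd h.base b.fiber s)).trans e

/-- Multiply a morphism of pairs by a global function of the source. -/
noncomputable def act (r : Γ(a.base, ⊤)) (h : a ⟶ b) : a ⟶ b where
  base := h.base
  fiber := sm a r ≫ h.fiber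

theorem act_base (r : Γ(a.base, ⊤)) (h : a ⟶ b) : (act r h).base = h.base := rfl

theorem act_one (h : a ⟶ b) : act 1 h = h := by
  refine CoGrothendieck.Hom.ext _ _ rfl ?_
  show sm a 1 ≫ h.fiber = _
  simp [sm_one]
  exact (Category.comp_id _).symm

theorem act_act (r s : Γ(a.base, ⊤)) (h : a ⟶ b) : act r (act s h) = act (s * r) h := by
  refine CoGrothendieck.Hom.ext _ _ rfl ?_
  show sm a r ≫ sm a s ≫ h.fiber = (sm a (s * r) ≫ h.fiber) ≫ 𝟙 _
  rw [← Category.assoc, sm_mul, Category.comp_id]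

theorem act_comp (r : Γ(a.base, ⊤)) (h : a ⟶ b) (g : b ⟶ c) : act r h ≫ g = act r (h ≫ g) := by
  refine CoGrothendieck.Hom.ext _ _ rfl ?_
  simp [act]

theorem comp_act (s : Γ(b.base, ⊤)) (h : a ⟶ b) (g : b ⟶ c) :
    h ≫ act s g = act (h.base.appTop.hom s) (h ≫ g) := by
  refine CoGrothendieck.Hom.ext _ _ rfl ?_
  simp only [act, CoGrothendieck.categoryStruct_comp_fiber, Functor.map_comp, Category.assoc]
  rw [← Category.assoc, fiber_map_sm]
  simp

theorem act_injective (hM : PicF.IsInvertible (Y := a.base) a.fiber) {h : a ⟶ b}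
    (hh : IsIso h.fiber) {r s : Γ(a.base, ⊤)} (e : act r h = act s h) : r = s := by
  apply scalarEnd_injective hM
  have e' := CoGrothendieck.Hom.congr e
  have e'' : sm a r ≫ h.fiber = sm a s ≫ h.fiber := by
    simpa [act] using e'
  exact (cancel_mono h.fiber).1 e''

theorem exists_eq_act (hM : PicF.IsInvertible (Y := a.base) a.fiber) (h h' : a ⟶ b)
    (hh : IsIso h.fiber) (e : h'.base = h.base) : ∃ r, h' = act r h := by
  obtain ⟨f, φ⟩ := h'
  obtain ⟨g, ψ⟩ := h
  change f = g at e
  subst e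
  obtain ⟨r, hr⟩ := exists_scalarEnd_eq (X := a.base) hM (φ ≫ @inv _ _ _ _ ψ hh)
  refine ⟨r, ?_⟩
  show _ = (⟨f, sm a r ≫ ψ⟩ : a ⟶ b)
  congr 1
  have hr' : φ ≫ @inv _ _ _ _ ψ hh = sm a r := hr
  rw [← hr', Category.assoc, @IsIso.inv_hom_id _ _ _ _ ψ hh, Category.comp_id]

end Pairs

section Functions

/-- A geometrically integral proper scheme with a rational point has only constant functions. -/
theorem appTop_surjective {k : Type u} [Field k] {A : Over (Spec (CommRingCat.of k))} [GrpObj A]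
    [IsProper A.hom] [GeometricallyIntegral A.hom] : Function.Surjective A.hom.appTop.hom := by
  have : IsIntegral A.left := GeometricallyIntegral.isIntegral_of_subsingleton A.hom
  let F := (isField_of_universallyClosed k A.hom).toField
  let σ : Spec (CommRingCat.of k) ⟶ A.left := η[A].left
  have hσ : σ ≫ A.hom = 𝟙 _ := Over.w η[A]
  have e : A.hom.appTop ≫ σ.appTop = 𝟙 _ := by
    rw [← Scheme.Hom.comp_appTop, hσ]; simp
  intro x
  refine ⟨σ.appTop.hom x, ?_⟩
  have hinj : Function.Injective σ.appTop.hom := by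
    intro a b hab
    by_contra hne
    have h0 := (sub_ne_zero.mpr hne).isUnit.map σ.appTop.hom
    rw [map_sub, hab, sub_self] at h0
    exact not_isUnit_zero h0
  exact hinj congr($(e).hom (σ.appTop.hom x))

theorem pushout_inr_surjective {P A B C : CommRingCat.{u}} {f : A ⟶ B} {g : A ⟶ C} {i : B ⟶ P}
    {j : C ⟶ P} (h : IsPushout f g i j) (hf : Function.Surjective f.hom) :
    Function.Surjective j.hom := by
  have hi : ∀ b, i.hom b ∈ j.hom.range := by
    intro b
    obtain ⟨a, rfl⟩ := hf b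
    exact ⟨g.hom a, congr($(h.w).hom a).symm⟩
  let j' : C ⟶ CommRingCat.of j.hom.range := CommRingCat.ofHom j.hom.rangeRestrict
  let i' : B ⟶ CommRingCat.of j.hom.range := CommRingCat.ofHom (i.hom.codRestrict _ hi)
  let d := h.desc i' j' (by
    ext a
    exact congr($(h.w).hom a))
  have hd : d ≫ CommRingCat.ofHom j.hom.range.subtype = 𝟙 P := by
    apply h.hom_ext
    · rw [h.inl_desc_assoc, Category.comp_id]; rfl
    · rw [h.inr_desc_assoc, Category.comp_id]; rfl
  intro p
  obtain ⟨c, hc⟩ := (d.hom p).2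
  exact ⟨c, hc.trans congr($(hd).hom p)⟩

variable {k : Type u} [Field k] {A : Over (Spec (CommRingCat.of k))} [GrpObj A]
  [IsProper A.hom] [GeometricallyIntegral A.hom]

/-- A function on `A × T` is pulled back from `T`. -/
theorem eq_snd_appTop (T : Over (Spec (CommRingCat.of k))) (r : Γ((A ⊗ T).left, ⊤)) :
    r = (snd A T).left.appTop.hom ((lift (toUnit T ≫ η[A]) (𝟙 T)).left.appTop.hom r) := by
  let q : (A ⊗ T).left ⟶ T.left := (snd A T).left
  let σ : T.left ⟶ (A ⊗ T).left := (lift (toUnit T ≫ η[A]) (𝟙 T)).left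
  have hσ : σ ≫ q = 𝟙 _ := by
    rw [← Over.comp_left, lift_snd]; rfl
  show r = q.appTop.hom (σ.appTop.hom r)
  let c := σ.appTop.hom r
  let I := {W : T.left.Opens // IsAffineOpen W}
  refine (A ⊗ T).left.sheaf.eq_of_locally_eq' (fun W : I => q ⁻¹ᵁ W.1) ⊤ (fun W => homOfLE le_top)
    (fun z _ => by
      obtain ⟨_, ⟨W, hW, rfl⟩, hz, -⟩ := T.left.isBasis_affineOpens.exists_subset_of_mem_open
        (Set.mem_univ (q z)) isOpen_univ
      exact Opens.mem_iSup.mpr ⟨⟨W, hW⟩, hz⟩) _ _ fun W => ?_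
  obtain ⟨W, hW⟩ := W
  -- base change of the global functions of `A` to `W`
  have H : IsPullback (fst A T).left q A.hom T.hom := IsPullback.of_hasPullback _ _
  have hUY : q ⁻¹ᵁ W = (fst A T).left ⁻¹ᵁ ⊤ ⊓ q ⁻¹ᵁ W := by simp
  have : CompactSpace A.left := (quasiCompact_iff_compactSpace A.hom).mp inferInstance
  have : QuasiSeparatedSpace A.left := quasiSeparatedSpace_of_quasiSeparated A.hom
  have hiso := isIso_pushoutSection_of_isQuasiSeparated_of_flat_right (US := ⊤) (UT := W) (UX := ⊤)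
    H le_top le_top hUY (isAffineOpen_top _) hW (isCompact_univ) isQuasiSeparated_univ
  have hPO := (isIso_pushoutSection_iff H le_top le_top hUY).mp hiso
  have hf : Function.Surjective ((A.hom.appLE ⊤ ⊤ le_top).hom) := by
    have : A.hom.appLE ⊤ ⊤ le_top = A.hom.appTop := by
      simp [Scheme.Hom.appLE, Scheme.Hom.appTop]
    rw [this]
    exact appTop_surjective
  obtain ⟨d, hd⟩ := pushout_inr_surjective hPO hf
    ((A ⊗ T).left.presheaf.map (homOfLE (le_top : q ⁻¹ᵁ W ≤ ⊤)).op r)
  have hle : W ≤ σ ⁻¹ᵁ (q ⁻¹ᵁ W) := by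
    rw [← Scheme.Hom.comp_preimage, hσ]; rfl
  have hdc : d = T.left.presheaf.map (homOfLE (le_top : W ≤ ⊤)).op c := by
    have h1 := congrArg (σ.appLE (q ⁻¹ᵁ W) W hle).hom hd
    rw [← CommRingCat.comp_apply, ← CommRingCat.comp_apply, Scheme.Hom.appLE_comp_appLE,
      Scheme.Hom.map_appLE] at h1
    simp only [hσ] at h1
    simp [c, Scheme.Hom.appLE, Scheme.Hom.appTop] at h1 ⊢
    exact (congrArg (fun φ : T.left.presheaf.obj (op W) ⟶ T.left.presheaf.obj (op W) => φ.hom d)
      (T.left.presheaf.map_id (op W))).symm.trans h1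
  show (A ⊗ T).left.presheaf.map _ r = (A ⊗ T).left.presheaf.map _ (q.appTop.hom c)
  rw [← hd, hdc, ← CommRingCat.comp_apply, ← CommRingCat.comp_apply, Scheme.Hom.map_appLE]
  rfl

/-- Functions on `A × T` are invariant under translations. -/
theorem transl_appTop {T : Over (Spec (CommRingCat.of k))} (x : T ⟶ A) (r : Γ((A ⊗ T).left, ⊤)) :
    (ThetaGrp.transl A x).left.appTop.hom r = r := by
  rw [eq_snd_appTop T r, ← CommRingCat.comp_apply, ← Scheme.Hom.comp_appTop, ← Over.comp_left,
    ThetaGrp.transl_snd]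

end Functions

end Groth.Agent.H3.Scalars
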