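import Groth.Agent.H3.ThetaPts

set_option autoImplicit false

universe u

open CategoryTheory MonoidalCategory CartesianMonoidalCategory MonObj AlgebraicGeometry Opposite
open Pseudofunctor Bicategory

namespace Groth.Agent.H3.Cartesian

variable {a b c : CoGrothendieck (ThetaGrp.modPF.{u})}

/-- A morphism with invertible fibre is cartesian. -/
theorem exists_unique_lift (g : b ⟶ c) (hg : IsIso g.fiber) (t : a.base ⟶ b.base) (k : a ⟶ c)
    (hk : k.base = t ≫ g.base) : ∃! h : a ⟶ b, h.base = t ∧ h ≫ g = k := by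
  let F := ThetaGrp.modPF.{u}
  let r := (F.map t.op.toLoc).toFunctor.map g.fiber ≫
    (F.mapComp g.base.op.toLoc t.op.toLoc).inv.toNatTrans.app c.fiber
  have hr : IsIso r := @IsIso.comp_isIso _ _ _ _ _ _ _
    (Functor.map_isIso _ g.fiber)
    ((Cat.Hom.toNatIso (F.mapComp g.base.op.toLoc t.op.toLoc)).symm.app c.fiber).isIso_hom
  let tgt : a.fiber ⟶ (F.map (g.base.op.toLoc ≫ t.op.toLoc)).toFunctor.obj c.fiber :=
    k.fiber ≫ eqToHom (by rw [hk]; rfl)
  let h : a ⟶ b := ⟨t, tgt ≫ @inv _ _ _ _ r hr⟩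
  refine ⟨h, ⟨rfl, ?_⟩, ?_⟩
  · refine CoGrothendieck.Hom.ext _ _ hk.symm ?_
    show (tgt ≫ @inv _ _ _ _ r hr) ≫ r = _
    rw [Category.assoc, @IsIso.inv_hom_id _ _ _ _ r hr]
    exact Category.comp_id _
  · rintro ⟨t', φ⟩ ⟨ht, e⟩
    change t' = t at ht
    subst ht
    have e' := CoGrothendieck.Hom.congr e
    have hh : φ = tgt ≫ @inv _ _ _ _ r hr := by
      rw [@IsIso.eq_comp_inv _ _ _ _ _ r hr]
      exact e'
    subst hh
    rfl

/-- Composites with a cartesian morphism determine the first factor. -/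
theorem eq_of_comp_eq (g : b ⟶ c) (hg : IsIso g.fiber) {h h' : a ⟶ b} (hb : h.base = h'.base)
    (e : h ≫ g = h' ≫ g) : h = h' := by
  obtain ⟨w, -, hw⟩ := exists_unique_lift g hg h.base (h ≫ g) rfl
  rw [hw h ⟨rfl, rfl⟩, hw h' ⟨hb.symm, e.symm⟩]

section Descent

variable {S : Scheme.{u}} {A B : Over S} [GrpObj A]

theorem eq_of_transl_left_eq {T : Over S} {x y : T ⟶ A}
    (h : (ThetaGrp.transl A x).left = (ThetaGrp.transl A y).left) : x = y := by
  have h' : lift (toUnit T ≫ η[A]) (𝟙 T) ≫ ThetaGrp.transl A x ≫ fst A T =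
      lift (toUnit T ≫ η[A]) (𝟙 T) ≫ ThetaGrp.transl A y ≫ fst A T := by
    rw [show ThetaGrp.transl A x = ThetaGrp.transl A y from Over.OverMorphism.ext h]
  simpa only [ThetaGrp.transl_fst, MonObj.comp_mul, lift_fst, lift_snd_assoc, Category.id_comp,
    MonObj.one_eq_one, MonObj.comp_one, _root_.one_mul] using h'

theorem overPt_unique {L : A.left.Modules} {T : Over S} {β : ThetaGrp.thetaPts A L T}
    {x y : T ⟶ A} (hx : ThetaGrp.IsOverPt β x) (hy : ThetaGrp.IsOverPt β y) : x = y :=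
  eq_of_transl_left_eq (hx.symm.trans hy)

theorem overPt_mul {L : A.left.Modules} {T : Over S} {β γ : ThetaGrp.thetaPts A L T}
    {x y : T ⟶ A} (hx : ThetaGrp.IsOverPt β x) (hy : ThetaGrp.IsOverPt γ y) :
    ThetaGrp.IsOverPt (β * γ) (y * x) := by
  change (β.1 * γ.1).hom.base = _
  rw [Aut.Aut_mul_def, Iso.trans_hom, CoGrothendieck.categoryStruct_comp_base, hx, hy,
    ThetaGrp.transl_mul, Over.comp_left]

theorem overPt_one (L : A.left.Modules) (T : Over S) :
    ThetaGrp.IsOverPt (1 : ThetaGrp.thetaPts A L T) 1 := by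
  change (1 : Aut (ThetaGrp.thetaObj A L T)).hom.base = _
  rw [ThetaGrp.transl_one]; rfl

/-- The base change of a point over `x` along `g` lies over `g ≫ x`. -/
theorem overPt_baseChange {L : A.left.Modules} {T G : Over S} {β : ThetaGrp.thetaPts A L T}
    {g : T ⟶ G} {u : ThetaGrp.thetaPts A L G} (h : ThetaGrp.IsBaseChange β g u)
    {x : G ⟶ A} (hu : ThetaGrp.IsOverPt u x) {y : T ⟶ A} (hy : ThetaGrp.IsOverPt β y) :
    y = g ≫ x := by
  have e := congrArg CoGrothendieck.Hom.base h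
  rw [CoGrothendieck.categoryStruct_comp_base, CoGrothendieck.categoryStruct_comp_base, hy, hu] at e
  change (ThetaGrp.transl A y).left ≫ (A ◁ g).left = (A ◁ g).left ≫ (ThetaGrp.transl A x).left at e
  rw [← Over.comp_left, ← Over.comp_left] at e
  have e' : lift (toUnit T ≫ η[A]) (𝟙 T) ≫ (ThetaGrp.transl A y ≫ (A ◁ g)) ≫ fst A G =
      lift (toUnit T ≫ η[A]) (𝟙 T) ≫ ((A ◁ g) ≫ ThetaGrp.transl A x) ≫ fst A G := by
    rw [Over.OverMorphism.ext e]
  simpa only [Category.assoc, whiskerLeft_fst, whiskerLeft_snd_assoc, ThetaGrp.transl_fst,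
    MonObj.comp_mul, lift_fst, lift_snd_assoc, Category.id_comp,
    MonObj.one_eq_one, MonObj.comp_one, _root_.one_mul] using e'

theorem congr_comp_aux {X Y Z : Scheme.{u}} {f : X ⟶ Y} {g : Y ⟶ Z} {h : X ⟶ Z} (hh : h = f ≫ g)
    (L : Z.Modules) :
    ((Scheme.Modules.pullbackCongr hh).hom.app L ≫ (Scheme.Modules.pullbackComp f g).inv.app L) ≫
      𝟙 _ ≫ (Scheme.Modules.pullbackComp f g).hom.app L =
      eqToHom (congrArg (fun t => (Scheme.Modules.pullback t).obj L) hh) := by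
  subst hh
  simp [Scheme.Modules.pullbackCongr]

/-- The canonical morphism `(A × T, L_T) ⟶ (A, L)`. -/
noncomputable def toBase (L : A.left.Modules) (T : Over S) :
    ThetaGrp.thetaObj A L T ⟶ (⟨A.left, L⟩ : CoGrothendieck (ThetaGrp.modPF.{u})) where
  base := (fst A T).left
  fiber := 𝟙 _

omit [GrpObj A] in
theorem bcLift_toBase (L : A.left.Modules) {T T' : Over S} (g : T' ⟶ T) :
    ThetaGrp.bcLift A L g ≫ toBase L T = toBase L T' := by
  refine CoGrothendieck.Hom.ext _ _ ?_ ?_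
  · show (A ◁ g).left ≫ (fst A T).left = (fst A T').left
    rw [← Over.comp_left, whiskerLeft_fst]
  · have hh : (fst A T').left = (A ◁ g).left ≫ (fst A T).left := by
      rw [← Over.comp_left, whiskerLeft_fst]
    show ((Scheme.Modules.pullbackCongr hh).hom.app L ≫
        (Scheme.Modules.pullbackComp (A ◁ g).left (fst A T).left).inv.app L) ≫
      (Scheme.Modules.pullback (A ◁ g).left).map (𝟙 _) ≫
        (Scheme.Modules.pullbackComp (A ◁ g).left (fst A T).left).hom.app L = 𝟙 _ ≫ _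
    rw [CategoryTheory.Functor.map_id]
    refine (congr_comp_aux hh L).trans ?_
    exact (Category.id_comp _).symm

variable (f : A ⟶ B) (M : B.left.Modules) {L : A.left.Modules}
  (e : L ≅ (Scheme.Modules.pullback f.left).obj M)

/-- The morphism `(A, L) ⟶ (B, M)` given by `e`. -/
noncomputable def desc :
    (⟨A.left, L⟩ : CoGrothendieck (ThetaGrp.modPF.{u})) ⟶ ⟨B.left, M⟩ where
  base := f.left
  fiber := e.hom

/-- The canonical morphism `(A × T, L_T) ⟶ (B, M)`. -/
noncomputable def proj (T : Over S) :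
    ThetaGrp.thetaObj A L T ⟶ (⟨B.left, M⟩ : CoGrothendieck (ThetaGrp.modPF.{u})) :=
  toBase L T ≫ desc f M e

theorem isIso_proj_fiber (T : Over S) : IsIso (proj f M e T).fiber :=
  @IsIso.comp_isIso _ _ _ _ _ _ _
    (show IsIso (𝟙 ((Scheme.Modules.pullback (fst A T).left).obj L)) from inferInstance)
    (@IsIso.comp_isIso _ _ _ _ _ _ _
      (Functor.map_isIso (Scheme.Modules.pullback (fst A T).left) e.hom)
      (((Scheme.Modules.pullbackComp (fst A T).left f.left).app M).isIso_hom))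

theorem proj_base (T : Over S) : (proj f M e T).base = (fst A T ≫ f).left := rfl

theorem bcLift_proj {T T' : Over S} (g : T' ⟶ T) :
    ThetaGrp.bcLift A L g ≫ proj f M e T = proj f M e T' := by
  rw [proj, ← Category.assoc, bcLift_toBase]; rfl

theorem transl_comp_hom [GrpObj B] [IsMonHom f] {T : Over S} (x : T ⟶ A) (hx : x ≫ f = 1) :
    ThetaGrp.transl A x ≫ fst A T ≫ f = fst A T ≫ f := by
  rw [← Category.assoc, ThetaGrp.transl_fst, MonObj.mul_comp, Category.assoc, hx, MonObj.comp_one,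
    _root_.mul_one]

/-- A point of the kernel of `f` gives a unique point of the theta group of `f^*M`. -/
theorem existsUnique_kernelPt [GrpObj B] [IsMonHom f] {T : Over S} (x : T ⟶ A) (hx : x ≫ f = 1) :
    ∃! β : ThetaGrp.thetaPts A L T, ThetaGrp.IsOverPt β x ∧ β.1.hom ≫ proj f M e T = proj f M e T := by
  have hcomm : ∀ z : T ⟶ A, z ≫ f = 1 →
      (proj f M e T).base = (ThetaGrp.transl A z).left ≫ (proj f M e T).base := by
    intro z hz
    rw [proj_base, ← Over.comp_left, transl_comp_hom f z hz]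
  obtain ⟨h, ⟨hb, hh⟩, hu⟩ := exists_unique_lift (proj f M e T) (isIso_proj_fiber f M e T)
    (ThetaGrp.transl A x).left (proj f M e T) (hcomm x hx)
  have hx' : x⁻¹ ≫ f = 1 := by rw [GrpObj.inv_comp, hx, inv_one]
  obtain ⟨h', ⟨hb', hh'⟩, -⟩ := exists_unique_lift (proj f M e T) (isIso_proj_fiber f M e T)
    (ThetaGrp.transl A x⁻¹).left (proj f M e T) (hcomm x⁻¹ hx')
  have e1 : h ≫ h' = 𝟙 _ := by
    apply eq_of_comp_eq (proj f M e T) (isIso_proj_fiber f M e T)
    · rw [CoGrothendieck.categoryStruct_comp_base, hb, hb', ← Over.comp_left, ← ThetaGrp.transl_mul,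
        mul_inv_cancel, ThetaGrp.transl_one]
      rfl
    · rw [Category.assoc, hh', hh, Category.id_comp]
  have e2 : h' ≫ h = 𝟙 _ := by
    apply eq_of_comp_eq (proj f M e T) (isIso_proj_fiber f M e T)
    · rw [CoGrothendieck.categoryStruct_comp_base, hb, hb', ← Over.comp_left, ← ThetaGrp.transl_mul,
        inv_mul_cancel, ThetaGrp.transl_one]
      rfl
    · rw [Category.assoc, hh, hh', Category.id_comp]
  refine ⟨⟨⟨h, h', e1, e2⟩, x, hb⟩, ⟨hb, hh⟩, ?_⟩
  rintro ⟨γ, hγ⟩ ⟨hγ1, hγ2⟩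
  exact Subtype.ext (Aut.ext (hu γ.hom ⟨hγ1, hγ2⟩))

theorem overPt_comp_base {L : A.left.Modules} {T G : Over S} {β : ThetaGrp.thetaPts A L T}
    {g : T ⟶ G} {u : ThetaGrp.thetaPts A L G} {x : G ⟶ A} (hu : ThetaGrp.IsOverPt u x)
    (hy : ThetaGrp.IsOverPt β (g ≫ x)) :
    (β.1.hom ≫ ThetaGrp.bcLift A L g).base = (ThetaGrp.bcLift A L g ≫ u.1.hom).base := by
  rw [CoGrothendieck.categoryStruct_comp_base, CoGrothendieck.categoryStruct_comp_base, hy, hu]
  show (ThetaGrp.transl A (g ≫ x)).left ≫ (A ◁ g).left = (A ◁ g).left ≫ (ThetaGrp.transl A x).left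
  rw [← Over.comp_left, ← Over.comp_left]
  congr 1
  apply CartesianMonoidalCategory.hom_ext
  · simp only [Category.assoc, whiskerLeft_fst, ThetaGrp.transl_fst, MonObj.comp_mul,
      whiskerLeft_snd_assoc]
  · simp only [Category.assoc, whiskerLeft_snd, ThetaGrp.transl_snd]
    rw [← Category.assoc, ThetaGrp.transl_snd]

/-- The kernel points form a compatible family. -/
theorem kernelPt_isBaseChange [GrpObj B] [IsMonHom f] {T T' : Over S} (g : T' ⟶ T) {x : T ⟶ A}
    {β : ThetaGrp.thetaPts A L T} {β' : ThetaGrp.thetaPts A L T'}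
    (hβ : ThetaGrp.IsOverPt β x) (hβP : β.1.hom ≫ proj f M e T = proj f M e T)
    (hβ' : ThetaGrp.IsOverPt β' (g ≫ x)) (hβ'P : β'.1.hom ≫ proj f M e T' = proj f M e T') :
    ThetaGrp.IsBaseChange β' g β := by
  apply eq_of_comp_eq (proj f M e T) (isIso_proj_fiber f M e T) (overPt_comp_base hβ hβ')
  rw [Category.assoc, Category.assoc, bcLift_proj, hβP, bcLift_proj, hβ'P]

end Descent

end Groth.Agent.H3.Cartesian
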