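import Groth.Prelude.Def_ThetaGrp

set_option autoImplicit false

universe u

open CategoryTheory Pseudofunctor Bicategory AlgebraicGeometry Opposite

namespace Groth.Agent.H3.CoGrothIso

/-- Pulling modules back along an isomorphism is an equivalence. -/
instance isEquivalence_pullback {X Y : Scheme.{u}} (b : X ⟶ Y) [IsIso b] :
    (Scheme.Modules.pullback b).IsEquivalence :=
  (CategoryTheory.Equivalence.mk (Scheme.Modules.pullback b) (Scheme.Modules.pullback (inv b))
    ((Scheme.Modules.pullbackId Y).symm ≪≫ Scheme.Modules.pullbackCongr (IsIso.inv_hom_id b).symm ≪≫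
      (Scheme.Modules.pullbackComp (inv b) b).symm)
    (Scheme.Modules.pullbackComp b (inv b) ≪≫ Scheme.Modules.pullbackCongr (IsIso.hom_inv_id b) ≪≫
      Scheme.Modules.pullbackId X)).isEquivalence_functor

variable {a c : CoGrothendieck (ThetaGrp.modPF.{u})}

theorem exists_rightInv (f : a ⟶ c) (hb : IsIso f.base) (hf : IsIso f.fiber) :
    ∃ g : c ⟶ a, f ≫ g = 𝟙 a ∧ IsIso g.base ∧ IsIso g.fiber := by
  have he : (Scheme.Modules.pullback f.base).IsEquivalence := isEquivalence_pullback f.base
  let F := ThetaGrp.modPF.{u}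
  let G := (F.map f.base.op.toLoc).toFunctor
  have : G.IsEquivalence := he
  have e : 𝟙 a.base = f.base ≫ inv f.base := (IsIso.hom_inv_id f.base).symm
  let mc := (F.mapComp (inv f.base).op.toLoc f.base.op.toLoc)
  let tgt : G.obj c.fiber ⟶ G.obj ((F.map (inv f.base).op.toLoc).toFunctor.obj a.fiber) :=
    inv f.fiber ≫ (F.mapId ⟨op a.base⟩).inv.toNatTrans.app a.fiber ≫
      eqToHom (by
        have e' : (𝟙 ({ as := op a.base } : LocallyDiscrete Scheme.{u}ᵒᵖ)) =
            (inv f.base).op.toLoc ≫ f.base.op.toLoc :=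
          congrArg (fun t => Quiver.Hom.toLoc t.op) e
        rw [e']) ≫ mc.hom.toNatTrans.app a.fiber
  have ht : IsIso tgt := by
    refine @IsIso.comp_isIso _ _ _ _ _ _ _ inferInstance (@IsIso.comp_isIso _ _ _ _ _ _ _ ?_
      (@IsIso.comp_isIso _ _ _ _ _ _ _ inferInstance ?_))
    · exact ((Cat.Hom.toNatIso (F.mapId ⟨op a.base⟩)).symm.app a.fiber).isIso_hom
    · exact ((Cat.Hom.toNatIso mc).app a.fiber).isIso_hom
  refine ⟨⟨inv f.base, G.preimage tgt⟩, ?_, inferInstance, ?_⟩
  · refine CoGrothendieck.Hom.ext _ _ (IsIso.hom_inv_id f.base) ?_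
    show f.fiber ≫ G.map (G.preimage tgt) ≫ mc.inv.toNatTrans.app a.fiber = _
    rw [Functor.map_preimage]
    simp only [tgt, Category.assoc, IsIso.hom_inv_id_assoc, Cat.Hom.hom_inv_id_toNatTrans_app]
    erw [Category.comp_id]
    rfl
  · have : IsIso (G.map (G.preimage tgt)) := by rw [Functor.map_preimage]; exact ht
    exact isIso_of_reflects_iso (G.preimage tgt) G

/-- A morphism with invertible base and fibre is invertible. -/
theorem isIso_of_base_fiber (f : a ⟶ c) (hb : IsIso f.base) (hf : IsIso f.fiber) : IsIso f := by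
  obtain ⟨g, h1, hgb, hgf⟩ := exists_rightInv f hb hf
  obtain ⟨f', h2, -, -⟩ := exists_rightInv g hgb hgf
  have : f = f' := by
    rw [← Category.comp_id f, ← h2, ← Category.assoc, h1, Category.id_comp]
  exact ⟨g, h1, by rw [this, h2]⟩

end Groth.Agent.H3.CoGrothIso
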