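import Groth.Agent.H3.ThetaMaps

/-!
The commutator scalar of two points of a theta group.
-/

set_option autoImplicit false

universe u

open CategoryTheory MonoidalCategory CartesianMonoidalCategory MonObj AlgebraicGeometry Opposite
open Pseudofunctor Bicategory

namespace Groth.Agent.H3.Commutator

variable {k : Type u} [Field k] {A : Over (Spec (CommRingCat.of k))}
  [GrpObj A] [IsProper A.hom] [GeometricallyIntegral A.hom] [IsCommMonObj A]
  {L : A.left.Modules} {T T' : Over (Spec (CommRingCat.of k))}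

/-- `r` is the commutator scalar of the points over `x` and `y`. -/
def Comm (L : A.left.Modules) (x y : T ⟶ A) (r : Γ(T.left, ⊤)) : Prop :=
  ∀ β₁ β₂ : ThetaGrp.thetaPts A L T, ThetaGrp.IsOverPt β₁ x → ThetaGrp.IsOverPt β₂ y →
    (β₁ * β₂).1.hom = Scalars.act ((snd A T).left.appTop.hom r) (β₂ * β₁).1.hom

theorem commutator_indep (hL : PicF.IsInvertible L) {β₁ β₂ β₁' β₂' : ThetaGrp.thetaPts A L T}
    {x y : T ⟶ A} (h₁ : ThetaGrp.IsOverPt β₁ x) (h₁' : ThetaGrp.IsOverPt β₁' x)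
    (h₂ : ThetaGrp.IsOverPt β₂ y) (h₂' : ThetaGrp.IsOverPt β₂' y) {r : Γ((A ⊗ T).left, ⊤)}
    (hr : (β₁' * β₂').1.hom = Scalars.act r (β₂' * β₁').1.hom) :
    (β₁ * β₂).1.hom = Scalars.act r (β₂ * β₁).1.hom := by
  obtain ⟨r₁, e₁⟩ := ThetaMaps.exists_act hL h₁ h₁'
  obtain ⟨r₂, e₂⟩ := ThetaMaps.exists_act hL h₂ h₂'
  change β₂'.1.hom ≫ β₁'.1.hom = Scalars.act r (β₁'.1.hom ≫ β₂'.1.hom) at hr
  show β₂.1.hom ≫ β₁.1.hom = Scalars.act r (β₁.1.hom ≫ β₂.1.hom)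
  rw [e₁, e₂, Scalars.act_comp, Scalars.comp_act, Scalars.act_act, Scalars.act_comp,
    Scalars.comp_act, Scalars.act_act, h₁', h₂', Scalars.transl_appTop, Scalars.transl_appTop, hr,
    Scalars.act_act, Scalars.act_act]
  congr 1
  ring

theorem exists_comm (hL : PicF.IsInvertible L) {x y : T ⟶ A}
    (hx : ∃ β : ThetaGrp.thetaPts A L T, ThetaGrp.IsOverPt β x)
    (hy : ∃ β : ThetaGrp.thetaPts A L T, ThetaGrp.IsOverPt β y) : ∃ r, Comm L x y r := by
  obtain ⟨b₁, h₁'⟩ := hx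
  obtain ⟨b₂, h₂'⟩ := hy
  obtain ⟨r, hr⟩ := ThetaMaps.exists_commutator hL b₁ b₂
  refine ⟨(lift (toUnit T ≫ η[A]) (𝟙 T)).left.appTop.hom r, fun β₁ β₂ h₁ h₂ => ?_⟩
  rw [← Scalars.eq_snd_appTop T r]
  exact commutator_indep hL h₁ h₁' h₂ h₂' hr

theorem comm_unique (hL : PicF.IsInvertible L) {x y : T ⟶ A}
    (hx : ∃ β : ThetaGrp.thetaPts A L T, ThetaGrp.IsOverPt β x)
    (hy : ∃ β : ThetaGrp.thetaPts A L T, ThetaGrp.IsOverPt β y) {r s : Γ(T.left, ⊤)}
    (hr : Comm L x y r) (hs : Comm L x y s) : r = s := by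
  obtain ⟨b₁, h₁⟩ := hx
  obtain ⟨b₂, h₂⟩ := hy
  have e := Scalars.act_injective (a := ThetaGrp.thetaObj A L T)
    (PicLoc.isInvertible_pullback _ hL) (ThetaMaps.isIso_fiber_pt _)
    ((hr b₁ b₂ h₁ h₂).symm.trans (hs b₁ b₂ h₁ h₂))
  have e' := congrArg (fun c => (lift (toUnit T ≫ η[A]) (𝟙 T)).left.appTop.hom c) e
  rw [← CommRingCat.comp_apply, ← CommRingCat.comp_apply, ← Scheme.Hom.comp_appTop, ← Over.comp_left,
    lift_snd] at e'
  simpa using e'

theorem exists_over_comp {x : T ⟶ A}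
    (hx : ∃ β : ThetaGrp.thetaPts A L T, ThetaGrp.IsOverPt β x) (g : T' ⟶ T) :
    ∃ β : ThetaGrp.thetaPts A L T', ThetaGrp.IsOverPt β (g ≫ x) := by
  obtain ⟨b, hb⟩ := hx
  obtain ⟨β, hβ, -⟩ := ThetaMaps.exists_lift (ThetaGrp.bcLift A L g)
    (ThetaMaps.bcLift_fiber_isIso g) b hb (ThetaMaps.bcLift_transl g x)
  exact ⟨β, hβ⟩

theorem comm_comp (hL : PicF.IsInvertible L) {x y : T ⟶ A}
    (hx : ∃ β : ThetaGrp.thetaPts A L T, ThetaGrp.IsOverPt β x)
    (hy : ∃ β : ThetaGrp.thetaPts A L T, ThetaGrp.IsOverPt β y) {r : Γ(T.left, ⊤)}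
    (hr : Comm L x y r) (g : T' ⟶ T) : Comm L (g ≫ x) (g ≫ y) (g.left.appTop.hom r) := by
  intro β₁ β₂ h₁ h₂
  obtain ⟨b₁, hb₁⟩ := hx
  obtain ⟨b₂, hb₂⟩ := hy
  let P := ThetaGrp.bcLift A L g
  have hP : IsIso P.fiber := ThetaMaps.bcLift_fiber_isIso g
  obtain ⟨d₁, hd₁, e₁⟩ := ThetaMaps.exists_lift P hP b₁ hb₁ (ThetaMaps.bcLift_transl g x)
  obtain ⟨d₂, hd₂, e₂⟩ := ThetaMaps.exists_lift P hP b₂ hb₂ (ThetaMaps.bcLift_transl g y)
  refine commutator_indep hL h₁ hd₁ h₂ hd₂ ?_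
  refine Cartesian.eq_of_comp_eq P hP ?_ ?_
  · rw [Scalars.act_base, Cartesian.overPt_mul hd₁ hd₂, Cartesian.overPt_mul hd₂ hd₁,
      _root_.mul_comm]
  · rw [Scalars.act_comp, ThetaMaps.comp_eq_of_lift e₁ e₂, ThetaMaps.comp_eq_of_lift e₂ e₁,
      hr b₁ b₂ hb₁ hb₂, Scalars.comp_act]
    congr 1
    show (A ◁ g).left.appTop.hom _ = _
    rw [← CommRingCat.comp_apply, ← CommRingCat.comp_apply, ← Scheme.Hom.comp_appTop,
      ← Scheme.Hom.comp_appTop, ← Over.comp_left, ← Over.comp_left, whiskerLeft_snd]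

/-- An open subscheme, as an object over the base. -/
noncomputable abbrev res (T : Over (Spec (CommRingCat.of k))) (U : T.left.Opens) : Over (Spec (CommRingCat.of k)) :=
  Over.mk (U.ι ≫ T.hom)

noncomputable abbrev inc (T : Over (Spec (CommRingCat.of k))) (U : T.left.Opens) : res T U ⟶ T :=
  Over.homMk U.ι rfl

/-- The commutator scalars of locally liftable points glue. -/
theorem exists_comm_glue (hL : PicF.IsInvertible L) {x y : T ⟶ A}
    (hy : ∃ β : ThetaGrp.thetaPts A L T, ThetaGrp.IsOverPt β y)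
    (hx : ∀ t : T.left, ∃ U : T.left.Opens, t ∈ U ∧
      ∃ β : ThetaGrp.thetaPts A L (res T U), ThetaGrp.IsOverPt β (inc T U ≫ x)) :
    ∃ r : Γ(T.left, ⊤), ∀ U : T.left.Opens,
      (∃ β : ThetaGrp.thetaPts A L (res T U), ThetaGrp.IsOverPt β (inc T U ≫ x)) →
      Comm L (inc T U ≫ x) (inc T U ≫ y) (U.ι.appTop.hom r) := by
  let I := {U : T.left.Opens //
    ∃ β : ThetaGrp.thetaPts A L (res T U), ThetaGrp.IsOverPt β (inc T U ≫ x)}
  have hI : ∀ i : I, ∃ r, Comm L (inc T i.1 ≫ x) (inc T i.1 ≫ y) r := fun i =>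
    exists_comm hL i.2 (exists_over_comp hy _)
  choose r hr using hI
  let s : ∀ i : I, Γ(T.left, i.1) := fun i => i.1.topIso.hom.hom (r i)
  have hs : ∀ i j : I, T.left.presheaf.map (homOfLE (inf_le_left : i.1 ⊓ j.1 ≤ i.1)).op (s i) =
      T.left.presheaf.map (homOfLE (inf_le_right : i.1 ⊓ j.1 ≤ j.1)).op (s j) := by
    intro i j
    set V := i.1 ⊓ j.1 with hV
    let g₁ : res T V ⟶ res T i.1 := Over.homMk (T.left.homOfLE (inf_le_left : V ≤ i.1)) (by
      show T.left.homOfLE _ ≫ i.1.ι ≫ T.hom = V.ι ≫ T.hom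
      rw [Scheme.homOfLE_ι_assoc])
    let g₂ : res T V ⟶ res T j.1 := Over.homMk (T.left.homOfLE (inf_le_right : V ≤ j.1)) (by
      show T.left.homOfLE _ ≫ j.1.ι ≫ T.hom = V.ι ≫ T.hom
      rw [Scheme.homOfLE_ι_assoc])
    have hg₁ : g₁ ≫ inc T i.1 = inc T V :=
      Over.OverMorphism.ext (T.left.homOfLE_ι (inf_le_left : V ≤ i.1))
    have hg₂ : g₂ ≫ inc T j.1 = inc T V :=
      Over.OverMorphism.ext (T.left.homOfLE_ι (inf_le_right : V ≤ j.1))
    have c₁ := comm_comp hL i.2 (exists_over_comp hy _) (hr i) g₁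
    have c₂ := comm_comp hL j.2 (exists_over_comp hy _) (hr j) g₂
    rw [← Category.assoc, ← Category.assoc, hg₁] at c₁
    rw [← Category.assoc, ← Category.assoc, hg₂] at c₂
    have hxV : ∃ β : ThetaGrp.thetaPts A L (res T V), ThetaGrp.IsOverPt β (inc T V ≫ x) := by
      rw [← hg₁, Category.assoc]; exact exists_over_comp i.2 g₁
    have e := congrArg V.topIso.hom.hom (comm_unique hL hxV (exists_over_comp hy _) c₁ c₂)
    have key : ∀ (W : T.left.Opens) (hW : V ≤ W) (z : Γ(↑W, ⊤)),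
        V.topIso.hom.hom ((T.left.homOfLE hW).appTop.hom z) =
          T.left.presheaf.map (homOfLE hW).op (W.topIso.hom.hom z) := by
      intro W hW z
      rw [← CommRingCat.comp_apply, ← CommRingCat.comp_apply]
      congr 2
      simp [Scheme.Opens.topIso]
      exact (T.left.presheaf.map_comp _ _).symm.trans
        ((congrArg T.left.presheaf.map (Subsingleton.elim _ _)).trans (T.left.presheaf.map_comp _ _))
    rw [← key i.1 inf_le_left, ← key j.1 inf_le_right]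
    exact e
  obtain ⟨R, hR, -⟩ := T.left.sheaf.existsUnique_gluing' (fun i : I => i.1) ⊤
    (fun i => homOfLE le_top)
    (fun t _ => by
      obtain ⟨U, htU, hU⟩ := hx t
      exact TopologicalSpace.Opens.mem_iSup.mpr ⟨⟨U, hU⟩, htU⟩) s hs
  refine ⟨R, fun U hU => ?_⟩
  convert hr ⟨U, hU⟩ using 1
  apply (ConcreteCategory.bijective_of_isIso U.topIso.hom).1
  show U.topIso.hom.hom _ = s ⟨U, hU⟩
  rw [← hR ⟨U, hU⟩, ← CommRingCat.comp_apply]
  congr 2
  simp [Scheme.Opens.topIso]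
  exact (T.left.presheaf.map_comp _ _).symm.trans (congrArg T.left.presheaf.map (Subsingleton.elim _ _))

end Groth.Agent.H3.Commutator
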