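import Mathlib.AlgebraicGeometry.AlgClosed.Basic
import Mathlib.AlgebraicGeometry.Geometrically.Connected
import Mathlib.AlgebraicGeometry.Morphisms.Proper
import Mathlib.AlgebraicGeometry.PullbackCarrier
import Mathlib.AlgebraicGeometry.IdealSheaf.Subscheme
import Mathlib.RingTheory.Artinian.Module
import Mathlib.RingTheory.IntegralClosure.IsIntegral.Basic
import Mathlib.RingTheory.Adjoin.Basic
import Mathlib.CategoryTheory.Monoidal.Cartesian.Over
import Mathlib.CategoryTheory.Monoidal.Cartesian.Grp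

set_option autoImplicit false

universe u

open CategoryTheory Limits MonoidalCategory CartesianMonoidalCategory MonObj AlgebraicGeometry

namespace Groth.Agent.H3.FibreTranslation

theorem section_ext {Y : Scheme.{u}} {k : Type u} [Field k] (q : Y ⟶ Spec (CommRingCat.of k))
    {u v : Spec (CommRingCat.of k) ⟶ Y} (hu : u ≫ q = 𝟙 _) (hv : v ≫ q = 𝟙 _)
    (h : u (IsLocalRing.closedPoint k) = v (IsLocalRing.closedPoint k)) : u = v := by
  obtain ⟨⟨p, φ⟩, rfl⟩ := (Scheme.SpecToEquivOfField k Y).symm.surjective u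
  obtain ⟨⟨p', φ'⟩, rfl⟩ := (Scheme.SpecToEquivOfField k Y).symm.surjective v
  change (Spec.map φ ≫ Y.fromSpecResidueField p) _ = (Spec.map φ' ≫ Y.fromSpecResidueField p') _ at h
  have hp : p = p' :=
    (Scheme.fromSpecResidueField_apply p _).symm.trans
      (h.trans (Scheme.fromSpecResidueField_apply p' _))
  subst hp
  change Spec.map φ ≫ Y.fromSpecResidueField p = Spec.map φ' ≫ Y.fromSpecResidueField p
  obtain ⟨ψ, hψ⟩ := Spec.map_surjective (Y.fromSpecResidueField p ≫ q)
  have h1 : ψ ≫ φ = 𝟙 _ := Spec.map_injective (by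
    rw [Spec.map_comp, hψ, Spec.map_id, ← Category.assoc]; exact hu)
  have h2 : ψ ≫ φ' = 𝟙 _ := Spec.map_injective (by
    rw [Spec.map_comp, hψ, Spec.map_id, ← Category.assoc]; exact hv)
  suffices φ = φ' by rw [this]
  ext a
  have hs : ψ.hom (φ.hom a) = a :=
    φ.hom.injective (congr($h1 (φ.hom a)))
  have := congr($h2 (φ.hom a))
  rw [← hs]
  simp at this ⊢
  rw [this]
  exact congr($h1 (φ.hom a))

theorem apply_eq_of_preconnected {C : Scheme.{u}} {k : Type u} [Field k]
    (π : C ⟶ Spec (CommRingCat.of k)) [UniversallyClosed π] [PreconnectedSpace C]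
    {Y : Scheme.{u}} [IsAffine Y] (h : C ⟶ Y) (c₁ c₂ : C) : h c₁ = h c₂ := by
  suffices H : C.toSpecΓ c₁ = C.toSpecΓ c₂ by
    have e : C.toSpecΓ ≫ Spec.map h.appTop ≫ Y.isoSpec.inv = h := by
      rw [← Scheme.toSpecΓ_naturality_assoc]
      simp
    rw [← e, Scheme.Hom.comp_apply, Scheme.Hom.comp_apply _ _ c₂, H]
  let F := (Scheme.ΓSpecIso (CommRingCat.of k)).inv ≫ π.appTop
  have hF : F.hom.IsIntegral := by
    apply RingHom.isIntegral_respectsIso.2 (e := (Scheme.ΓSpecIso _).symm.commRingCatIsoToRingEquiv)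
    exact isIntegral_appTop_of_universallyClosed π
  algebraize [F.hom]
  apply PrimeSpectrum.ext
  ext a
  let B := Algebra.adjoin k {a}
  have : Module.Finite k B :=
    Module.Finite.iff_fg.mpr (IsIntegral.fg_adjoin_singleton (show _root_.IsIntegral k a from hF a))
  have : IsArtinianRing B := IsArtinianRing.of_finite k B
  let q : PrimeSpectrum Γ(C, ⊤) → PrimeSpectrum B :=
    PrimeSpectrum.comap (algebraMap B Γ(C, ⊤))
  have hq : Continuous q := PrimeSpectrum.continuous_comap _
  have hsub : q (C.toSpecΓ c₁) = q (C.toSpecΓ c₂) :=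
    isPreconnected_univ.constant (f := fun c => q (C.toSpecΓ c))
      ((hq.comp C.toSpecΓ.continuous).continuousOn) trivial trivial
  have := SetLike.ext_iff.mp (congrArg PrimeSpectrum.asIdeal hsub)
    ⟨a, Algebra.self_mem_adjoin_singleton k a⟩
  exact this

set_option maxHeartbeats 1200000 in
/-- Translations by points of a connected closed subset of the fibre through the unit preserve `f` on
closed points. -/
theorem translate_apply_eq {k : Type u} [Field k] [IsAlgClosed k]
    (A : Over (Spec (CommRingCat.of k))) [GrpObj A] [IsProper A.hom] [PreconnectedSpace A.left]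
    {Y : Scheme.{u}} (q : Y ⟶ Spec (CommRingCat.of k)) [IsSeparated q] (f : A.left ⟶ Y)
    (hf : f ≫ q = A.hom) (F : Set A.left) (hFc : IsClosed F) (hFp : _root_.IsPreconnected F)
    (he : η[A].left (IsLocalRing.closedPoint k) ∈ F)
    (hfib : ∀ z ∈ F, f z = f (η[A].left (IsLocalRing.closedPoint k)))
    (x b : 𝟙_ (Over (Spec (CommRingCat.of k))) ⟶ A)
    (hx : x.left (IsLocalRing.closedPoint k) ∈ F) :
    f ((x * b).left (IsLocalRing.closedPoint k)) = f (b.left (IsLocalRing.closedPoint k)) := by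
  let pt : (𝟙_ (Over (Spec (CommRingCat.of k)))).left := IsLocalRing.closedPoint k
  have : IsProper (snd A A).left := inferInstanceAs (IsProper (pullback.snd A.hom A.hom))
  have : JacobsonSpace A.left := LocallyOfFiniteType.jacobsonSpace A.hom
  have pts : ∀ z : A.left, IsClosed {z} → ∃ c : 𝟙_ (Over (Spec (CommRingCat.of k))) ⟶ A,
      c.left pt = z := by
    intro z hz
    obtain ⟨⟨a', ha'⟩, ea⟩ := (pointEquivClosedPoint A.hom).surjective ⟨z, hz⟩
    exact ⟨Over.homMk a' ha', congr(($ea).1)⟩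
  -- the closed subscheme on `F`
  let C := (Scheme.IdealSheafData.vanishingIdeal ⟨F, hFc⟩).subscheme
  let i : C ⟶ A.left := (Scheme.IdealSheafData.vanishingIdeal ⟨F, hFc⟩).subschemeι
  have hri : Set.range i = F := by
    show Set.range (Scheme.IdealSheafData.vanishingIdeal ⟨F, hFc⟩).subschemeι = F
    rw [Scheme.IdealSheafData.range_subschemeι, Scheme.IdealSheafData.coe_support_vanishingIdeal]
    rfl
  have : PreconnectedSpace C := by
    constructor
    rw [← i.isClosedEmbedding.isInducing.isPreconnected_image, Set.image_univ, hri]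
    exact hFp
  let R : (𝟙_ (Over (Spec (CommRingCat.of k))) ⟶ A) → (A ⟶ A) := fun c => 𝟙 A * (toUnit A ≫ c)
  have hR : ∀ y c : 𝟙_ (Over (Spec (CommRingCat.of k))) ⟶ A,
      (R c).left (y.left pt) = (y * c).left pt := by
    intro y c
    have : y ≫ R c = y * c := by
      simp only [R, MonObj.comp_mul, Category.comp_id, ← Category.assoc]
      rw [toUnit_unique (y ≫ toUnit A) (𝟙 _), Category.id_comp]
    rw [← this]; rfl
  have hη : η[A].left pt ∈ F := he
  let good : (𝟙_ (Over (Spec (CommRingCat.of k))) ⟶ A) → Prop := fun c =>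
    ∀ z ∈ F, f ((R c).left z) = f (c.left pt)
  have hgood1 : good η[A] := by
    intro z hz
    have : R η[A] = 𝟙 A := by
      simp only [R, MonObj.one_eq_one, MonObj.comp_one, _root_.mul_one]
    rw [this]
    exact hfib z hz
  -- openness
  have hopen : ∀ c, good c → ∃ W : A.left.Opens, c.left pt ∈ W ∧
      ∀ a : 𝟙_ (Over (Spec (CommRingCat.of k))) ⟶ A, a.left pt ∈ W → good a := by
    intro c hc
    obtain ⟨_, ⟨(U₀ : Y.Opens), hU₀, rfl⟩, hu, -⟩ :=
      Y.isBasis_affineOpens.exists_subset_of_mem_open (Set.mem_univ (f (c.left pt))) isOpen_univ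
    let g : (A ⊗ A).left ⟶ Y := (fst A A * snd A A).left ≫ f
    let Z : Set A.left := (snd A A).left '' ((fst A A).left ⁻¹' F ∩ g ⁻¹' (U₀ : Set Y)ᶜ)
    have hZ : IsClosed Z := (snd A A).left.isClosedMap _
      ((hFc.preimage (fst A A).left.continuous).inter
        (U₀.isOpen.isClosed_compl.preimage g.continuous))
    have hg : ∀ (a : 𝟙_ (Over (Spec (CommRingCat.of k))) ⟶ A) (y : A.left),
        g ((lift (𝟙 A) (toUnit A ≫ a)).left y) = f ((R a).left y) := by
      intro a y
      have e : lift (𝟙 A) (toUnit A ≫ a) ≫ (fst A A * snd A A) = R a := by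
        simp only [R, MonObj.comp_mul, lift_fst, lift_snd]
      rw [← e]; rfl
    have hl1 : ∀ (a : 𝟙_ (Over (Spec (CommRingCat.of k))) ⟶ A) (y : A.left),
        (fst A A).left ((lift (𝟙 A) (toUnit A ≫ a)).left y) = y := by
      intro a y
      have e := congrArg Over.Hom.left (lift_fst (𝟙 A) (toUnit A ≫ a))
      exact congr($e y)
    have hl2 : ∀ (a : 𝟙_ (Over (Spec (CommRingCat.of k))) ⟶ A) (y : A.left),
        (snd A A).left ((lift (𝟙 A) (toUnit A ≫ a)).left y) = a.left pt := by
      intro a y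
      have e := congrArg Over.Hom.left (lift_snd (𝟙 A) (toUnit A ≫ a))
      refine (congr($e y)).trans ?_
      show a.left ((toUnit A).left y) = a.left pt
      congr 1
      exact Subsingleton.elim (α := Spec (CommRingCat.of k)) _ _
    have hcZ : c.left pt ∉ Z := by
      rintro ⟨p, ⟨hp1, hp2⟩, hpe⟩
      have hmem : p ∈ Set.range (A ◁ c).left := by
        rw [Over.whiskerLeft_left, Scheme.Pullback.range_map]
        exact ⟨⟨_, rfl⟩, ⟨pt, hpe.symm⟩⟩
      obtain ⟨y, rfl⟩ := hmem
      have e : A ◁ c = fst A (𝟙_ _) ≫ lift (𝟙 A) (toUnit A ≫ c) := by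
        ext : 1
        · simp
        · simp only [whiskerLeft_snd, Category.assoc, lift_snd]
          rw [← Category.assoc, toUnit_unique (fst A (𝟙_ _) ≫ toUnit A) (snd A (𝟙_ _))]
      apply hp2
      show g _ ∈ U₀
      rw [e] at hp1 ⊢
      change (fst A A).left ((lift (𝟙 A) (toUnit A ≫ c)).left ((fst A _).left y)) ∈ F at hp1
      rw [hl1] at hp1
      show g ((lift (𝟙 A) (toUnit A ≫ c)).left ((fst A _).left y)) ∈ U₀
      rw [hg, hc _ hp1]
      exact hu
    refine ⟨⟨Zᶜ, hZ.isOpen_compl⟩, hcZ, fun a ha => ?_⟩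
    have hrange : Set.range (i ≫ (R a).left ≫ f) ⊆ Set.range U₀.ι := by
      rintro _ ⟨d, rfl⟩
      simp only [Scheme.Opens.range_ι]
      by_contra hd
      refine ha ⟨(lift (𝟙 A) (toUnit A ≫ a)).left (i d), ⟨?_, ?_⟩, hl2 a _⟩
      · show (fst A A).left _ ∈ F
        rw [hl1, ← hri]
        exact ⟨d, rfl⟩
      · show g _ ∉ U₀
        rw [hg]
        exact hd
    have : IsAffine U₀ := hU₀
    have key : ∀ d₁ d₂ : C, (i ≫ (R a).left ≫ f) d₁ = (i ≫ (R a).left ≫ f) d₂ := by
      intro d₁ d₂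
      have := congrArg U₀.ι (apply_eq_of_preconnected (i ≫ A.hom)
        (IsOpenImmersion.lift U₀.ι (i ≫ (R a).left ≫ f) hrange) d₁ d₂)
      rwa [← Scheme.Hom.comp_apply, ← Scheme.Hom.comp_apply _ U₀.ι d₂,
        IsOpenImmersion.lift_fac] at this
    intro z hz
    obtain ⟨d, hd⟩ : z ∈ Set.range i := hri.symm ▸ hz
    obtain ⟨ce, hce⟩ : η[A].left pt ∈ Set.range i := hri.symm ▸ hη
    have hk := key d ce
    simp only [Scheme.Hom.comp_apply, hd, hce] at hk
    rw [hk, hR, MonObj.one_eq_one, _root_.one_mul]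
  -- good points
  let τ : A ⟶ A := lift (toUnit A ≫ x) (𝟙 A) ≫ μ[A]
  have hτ : ∀ a : 𝟙_ (Over (Spec (CommRingCat.of k))) ⟶ A,
      τ.left (a.left pt) = (x * a).left pt := by
    intro a
    have : a ≫ τ = x * a := by
      simp only [τ, ← Category.assoc, comp_lift, Category.comp_id]
      rw [toUnit_unique (a ≫ toUnit A) (𝟙 _), Category.id_comp]
      rfl
    rw [← this]; rfl
  let G : Set (A.left) := {z | ∀ (y : 𝟙_ (Over (Spec (CommRingCat.of k))) ⟶ A), y.left pt ∈ F →
    z ∈ Set.range (equalizer.ι (Over.homMk ((lift (toUnit A ≫ y) (𝟙 A) ≫ μ[A]).left ≫ f)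
      (by show (_ ≫ f) ≫ q = A.hom; rw [Category.assoc, hf, Over.w]) : A ⟶ Over.mk q)
      (Over.homMk f hf : A ⟶ Over.mk q)).left}
  have hG : IsClosed G := by
    simp only [G, Set.ofPred_forall]
    refine isClosed_iInter fun y => isClosed_iInter fun _ => ?_
    have : IsSeparated (Over.mk q).hom := ‹IsSeparated q›
    exact (Scheme.Hom.isClosedEmbedding _).isClosed_range
  have hGgood : ∀ a, good a → a.left pt ∈ G := by
    intro a ha y hy
    let fy : A ⟶ Over.mk q := Over.homMk ((lift (toUnit A ≫ y) (𝟙 A) ≫ μ[A]).left ≫ f)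
      (by show (_ ≫ f) ≫ q = A.hom; rw [Category.assoc, hf, Over.w])
    have e : a ≫ fy = a ≫ (Over.homMk f hf : A ⟶ Over.mk q) := by
      ext1
      refine section_ext q ?_ ?_ ?_
      · exact (Category.assoc _ _ _).trans ((congrArg (a.left ≫ ·) (Over.w fy)).trans (Over.w a))
      · exact (Category.assoc _ _ _).trans ((congrArg (a.left ≫ ·) hf).trans (Over.w a))
      · show f ((lift (toUnit A ≫ y) (𝟙 A) ≫ μ[A]).left (a.left pt)) = f (a.left pt)
        have : a ≫ (lift (toUnit A ≫ y) (𝟙 A) ≫ μ[A]) = y * a := by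
          simp only [← Category.assoc, comp_lift, Category.comp_id]
          rw [toUnit_unique (a ≫ toUnit A) (𝟙 _), Category.id_comp]
          rfl
        have hh : (lift (toUnit A ≫ y) (𝟙 A) ≫ μ[A]).left (a.left pt) = (y * a).left pt := by
          rw [← this]; rfl
        rw [hh, ← hR]
        exact ha _ hy
    exact ⟨(equalizer.lift a e).left pt, by
      rw [← Scheme.Hom.comp_apply, ← Over.comp_left, equalizer.lift_ι]⟩
  have hgoodG : ∀ c, c.left pt ∈ G → good c := by
    intro c hc z hz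
    -- closed points of `F` first
    have hcl : ∀ d : 𝟙_ (Over (Spec (CommRingCat.of k))) ⟶ A, d.left pt ∈ F →
        f ((R c).left (d.left pt)) = f (c.left pt) := by
      intro d hd
      obtain ⟨w, hw⟩ := hc d hd
      have e := congrArg Over.Hom.left (equalizer.condition
        (Over.homMk ((lift (toUnit A ≫ d) (𝟙 A) ≫ μ[A]).left ≫ f)
          (by show (_ ≫ f) ≫ q = A.hom; rw [Category.assoc, hf, Over.w]) : A ⟶ Over.mk q)
        (Over.homMk f hf : A ⟶ Over.mk q))
      have e' := congr($e w)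
      simp only [Over.comp_left, Over.homMk_left, Scheme.Hom.comp_apply] at e'
      erw [hw] at e'
      have : c ≫ (lift (toUnit A ≫ d) (𝟙 A) ≫ μ[A]) = d * c := by
        simp only [← Category.assoc, comp_lift, Category.comp_id]
        rw [toUnit_unique (c ≫ toUnit A) (𝟙 _), Category.id_comp]
        rfl
      rw [hR, ← this]
      exact e'
    by_contra hne
    have hclosed : IsClosed {f (c.left pt)} := by
      have hsec : (c.left ≫ f) ≫ q = 𝟙 _ := by rw [Category.assoc, hf]; exact Over.w c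
      have : IsClosedImmersion (c.left ≫ f) :=
        isClosedImmersion_of_comp_eq_id (Y := Spec (CommRingCat.of k)) q (c.left ≫ f) hsec
      have hcl2 := (c.left ≫ f).isClosedEmbedding.isClosed_range
      have hrg : Set.range (c.left ≫ f) = {f (c.left pt)} := by
        apply Set.Subset.antisymm
        · rintro _ ⟨w, rfl⟩
          have : w = pt := Subsingleton.elim (α := Spec (CommRingCat.of k)) w pt
          subst this; rfl
        · rintro _ rfl
          exact ⟨pt, rfl⟩
      rwa [hrg] at hcl2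
    obtain ⟨d, hd1, hd2⟩ := nonempty_inter_closedPoints
      (Z := F ∩ ((R c).left ≫ f) ⁻¹' {f (c.left pt)}ᶜ) ⟨z, hz, hne⟩
      (hFc.isLocallyClosed.inter
        (hclosed.isOpen_compl.preimage ((R c).left ≫ f).continuous).isLocallyClosed)
    obtain ⟨d', rfl⟩ := pts d hd2
    exact hd1.2 (hcl d' hd1.1)
  have hGopen : IsOpen G := by
    rw [isOpen_iff_forall_mem_open]
    intro s hs
    obtain ⟨z, hz1, hz2⟩ := nonempty_inter_closedPoints (Z := closure {s})
      ⟨s, subset_closure rfl⟩ isClosed_closure.isLocallyClosed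
    obtain ⟨c, rfl⟩ := pts z hz2
    obtain ⟨W, hcW, hW⟩ := hopen c (hgoodG c (closure_minimal (by simpa using hs) hG hz1))
    refine ⟨W, ?_, W.isOpen, ?_⟩
    · intro w hw
      by_contra hwG
      obtain ⟨d, hd1, hd2⟩ := nonempty_inter_closedPoints (Z := (W : Set A.left) ∩ Gᶜ) ⟨w, hw, hwG⟩
        (W.isOpen.inter hG.isOpen_compl).isLocallyClosed
      obtain ⟨a, rfl⟩ := pts d hd2
      exact hd1.2 (hGgood a (hW a hd1.1))
    · obtain ⟨w, hw1, hw2⟩ := mem_closure_iff.mp hz1 W W.isOpen hcW
      rwa [Set.mem_singleton_iff.mp hw2] at hw1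
  have huniv : G = Set.univ :=
    IsClopen.eq_univ ⟨hG, hGopen⟩ ⟨η[A].left pt, hGgood _ hgood1⟩
  have hb := hgoodG b (huniv ▸ Set.mem_univ _) (x.left pt) hx
  rwa [hR] at hb

end Groth.Agent.H3.FibreTranslation
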