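import Mathlib.AlgebraicGeometry.AlgClosed.Basic
import Mathlib.AlgebraicGeometry.Morphisms.Etale
import Mathlib.AlgebraicGeometry.Morphisms.Finite
import Mathlib.AlgebraicGeometry.Sites.Fpqc
import Mathlib.AlgebraicGeometry.PullbackCarrier
import Mathlib.RingTheory.Unramified.Field
import Mathlib.CategoryTheory.Monoidal.Cartesian.Over
import Mathlib.CategoryTheory.Monoidal.Cartesian.Grp

set_option autoImplicit false

universe u

open CategoryTheory Limits MonoidalCategory CartesianMonoidalCategory MonObj AlgebraicGeometry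

namespace Groth.Agent.H3.IsogenyDescent

/-- A finite étale scheme over a field is reduced. -/
theorem isReduced_of_finite_etale {k : Type u} [Field k] {X : Scheme.{u}}
    (p : X ⟶ Spec (CommRingCat.of k)) [IsFinite p] [Etale p] : AlgebraicGeometry.IsReduced X := by
  have : IsAffine X := isAffine_of_isAffineHom p
  have h : p.appTop.hom.Etale := HasRingHomProperty.appTop @Etale p ‹_›
  let F := (Scheme.ΓSpecIso (CommRingCat.of k)).inv ≫ p.appTop
  have hF : F.hom.Etale := RingHom.Etale.respectsIso.2 p.appTop.hom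
    (Scheme.ΓSpecIso (CommRingCat.of k)).symm.commRingCatIsoToRingEquiv h
  algebraize [F.hom]
  have : _root_.IsReduced Γ(X, ⊤) := Algebra.FormallyUnramified.isReduced_of_field k _
  exact isReduced_of_isAffine_isReduced X

/-- A morphism which kills the rational points of the kernel of a finite étale surjective
homomorphism factors uniquely through it, as a homomorphism. -/
theorem existsUnique_factor {k : Type u} [Field k] [IsAlgClosed k]
    {E E' E'' : Over (Spec (CommRingCat.of k))} [GrpObj E] [GrpObj E'] [GrpObj E'']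
    [IsSeparated E''.hom] [LocallyOfFiniteType E''.hom]
    (φ : E ⟶ E') [IsMonHom φ] [IsFinite φ.left] [Surjective φ.left] [Etale φ.left]
    (ψ : E ⟶ E'') [IsMonHom ψ]
    (hker : ∀ P : 𝟙_ (Over (Spec (CommRingCat.of k))) ⟶ E, P ≫ φ = η[E'] → P ≫ ψ = η[E'']) :
    ∃! ρ : E' ⟶ E'', IsMonHom ρ ∧ φ ≫ ρ = ψ := by
  -- the kernel
  let N : Over (Spec (CommRingCat.of k)) :=
    Over.mk (pullback.snd φ.left η[E'].left :
      pullback φ.left η[E'].left ⟶ Spec (CommRingCat.of k))
  let i : N ⟶ E := Over.homMk (pullback.fst φ.left η[E'].left) (by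
    rw [← Over.w φ, ← Category.assoc, pullback.condition, Category.assoc, Over.w η[E']]
    exact Category.comp_id _)
  have : IsFinite N.hom := inferInstanceAs (IsFinite (pullback.snd φ.left η[E'].left))
  have : Etale N.hom := inferInstanceAs (Etale (pullback.snd φ.left η[E'].left))
  have : AlgebraicGeometry.IsReduced N.left := isReduced_of_finite_etale N.hom
  have hiφ : i ≫ φ = 1 := by
    ext1
    rw [Hom.one_def, Over.comp_left, Over.comp_left]
    refine pullback.condition.trans ?_
    show _ = _ ≫ η[E'].left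
    rfl
  have hi : i ≫ ψ = 1 := by
    ext1
    have : LocallyOfFiniteType ((i ≫ ψ).left ≫ E''.hom) := by rw [Over.w]; infer_instance
    refine ext_of_apply_eq E''.hom Set.univ isClosed_univ.isLocallyClosed dense_univ ?_
      (by rw [Over.w, Over.w])
    intro y _ hy
    obtain ⟨⟨a, ha⟩, ea⟩ := (pointEquivClosedPoint N.hom).surjective ⟨y, hy⟩
    obtain rfl : a (IsLocalRing.closedPoint k) = y := congr(($ea).1)
    let P : 𝟙_ (Over (Spec (CommRingCat.of k))) ⟶ N := Over.homMk a ha
    have h1 : P ≫ i ≫ ψ = P ≫ 1 := by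
      rw [← Category.assoc, hker (P ≫ i) (by rw [Category.assoc, hiφ, MonObj.comp_one, MonObj.one_eq_one]),
        MonObj.comp_one, MonObj.one_eq_one]
    exact congr($(congrArg Over.Hom.left h1) (IsLocalRing.closedPoint k))
  have hfac : ∀ {T : Over (Spec (CommRingCat.of k))} (x y : T ⟶ E), x ≫ φ = y ≫ φ → x ≫ ψ = y ≫ ψ := by
    intro T x y h
    have hd : (x⁻¹ * y) ≫ φ = 1 := by
      rw [MonObj.mul_comp, GrpObj.inv_comp, h, inv_mul_cancel]
    have hd' : (x⁻¹ * y).left ≫ φ.left = T.hom ≫ η[E'].left := by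
      rw [← Over.comp_left, hd, Hom.one_def, Over.comp_left]
      rfl
    let z : T ⟶ N := Over.homMk (pullback.lift (x⁻¹ * y).left T.hom hd') (pullback.lift_snd _ _ _)
    have hz : z ≫ i = x⁻¹ * y := Over.OverMorphism.ext (pullback.lift_fst _ _ _)
    have h2 : (x⁻¹ * y) ≫ ψ = 1 := by rw [← hz, Category.assoc, hi, MonObj.comp_one]
    rw [MonObj.mul_comp, GrpObj.inv_comp, inv_mul_eq_one] at h2
    exact h2
  have hfac' : ∀ {Z : Scheme.{u}} (g₁ g₂ : Z ⟶ E.left), g₁ ≫ φ.left = g₂ ≫ φ.left →
      g₁ ≫ ψ.left = g₂ ≫ ψ.left := by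
    intro Z g₁ g₂ h
    let T : Over (Spec (CommRingCat.of k)) := Over.mk (g₁ ≫ E.hom)
    let x : T ⟶ E := Over.homMk g₁ rfl
    let y : T ⟶ E := Over.homMk g₂ (by
      show g₂ ≫ E.hom = g₁ ≫ E.hom
      rw [← Over.w φ, ← Category.assoc, ← h, Category.assoc])
    exact congrArg Over.Hom.left (hfac x y (Over.OverMorphism.ext h))
  let r : E'.left ⟶ E''.left := EffectiveEpi.desc φ.left ψ.left hfac'
  have hr : φ.left ≫ r = ψ.left := EffectiveEpi.fac φ.left ψ.left hfac'
  let ρ : E' ⟶ E'' := Over.homMk r (by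
    rw [← cancel_epi φ.left, ← Category.assoc, hr, Over.w, Over.w])
  have hρ : φ ≫ ρ = ψ := Over.OverMorphism.ext hr
  have hepi : Epi φ := Over.epi_of_epi_left φ
  have hepi2 : Epi (φ ⊗ₘ φ) := by
    have h1 : Surjective (φ ⊗ₘ φ).left := by
      rw [Over.tensorHom_left]
      exact MorphismProperty.pullbackMap (P := @Surjective) ‹Surjective φ.left› ‹Surjective φ.left› (Over.w φ).symm (Over.w φ).symm
    have h2 : Etale (φ ⊗ₘ φ).left := by
      rw [Over.tensorHom_left]
      exact MorphismProperty.pullbackMap (P := @Etale) ‹Etale φ.left› ‹Etale φ.left› (Over.w φ).symm (Over.w φ).symm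
    exact Over.epi_of_epi_left _
  have hmon : IsMonHom ρ := by
    constructor
    · rw [← IsMonHom.one_hom φ, Category.assoc, hρ, IsMonHom.one_hom ψ]
    · rw [← cancel_epi (φ ⊗ₘ φ), ← Category.assoc, ← IsMonHom.mul_hom, Category.assoc, hρ,
        IsMonHom.mul_hom ψ, ← Category.assoc, tensorHom_comp_tensorHom, hρ]
  exact ⟨ρ, ⟨hmon, hρ⟩, fun ρ' h => (cancel_epi φ).mp (h.2.trans hρ.symm)⟩

end Groth.Agent.H3.IsogenyDescent
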