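import Groth.Agent.H3.PicCalc

set_option autoImplicit false

universe u

open CategoryTheory MonoidalCategory CartesianMonoidalCategory MonObj AlgebraicGeometry

namespace Groth.Agent.H3.KLBasics

open Groth.Agent.H3.PicCalc

variable [∀ Y : Scheme.{u}, PicGrp.Law Y]
variable {S : Scheme.{u}} [Subsingleton S] [Nonempty S] {X : Over S} [GrpObj X]
  {L : X.left.Modules} (hL : PicF.IsInvertible L) {K : Over S} {i : K ⟶ X}
  (hK : ThetaGrp.IsKL X L i)

include hL hK in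
theorem factors_iff {T : Over S} (x : T ⟶ X) :
    (∃ y : T ⟶ K, y ≫ i = x) ↔ ∃ n, TransTriv X (PicGrp.cls L hL) x n :=
  (hK.univ T x).symm.trans (mumford_iff X hL x)

include hL in
theorem transTriv_iff_iso {T : Over S} (x : T ⟶ X) {M : T.left.Modules}
    (hM : PicF.IsInvertible M) :
    TransTriv X (PicGrp.cls L hL) x (PicGrp.cls M hM) ↔
      Nonempty (CohB1.tensorMod ((Scheme.Modules.pullback (fst X T).left).obj L)
          ((Scheme.Modules.pullback (snd X T).left).obj M) ≅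
        (Scheme.Modules.pullback (ThetaGrp.transl X x ≫ fst X T).left).obj L) := by
  rw [iso_iff (cl_tensor (cl_pullback (fst X T) (a := PicGrp.cls L hL) rfl)
      (cl_pullback (snd X T) (a := PicGrp.cls M hM) rfl))
    (cl_pullback (ThetaGrp.transl X x ≫ fst X T) (a := PicGrp.cls L hL) rfl)]
  exact eq_comm

include hL hK in
theorem factors_iff_iso (T : Over S) (x : T ⟶ X) :
    (∃ y : T ⟶ K, y ≫ i = x) ↔ ∃ M : T.left.Modules, PicF.IsInvertible M ∧
      Nonempty (CohB1.tensorMod ((Scheme.Modules.pullback (fst X T).left).obj L)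
          ((Scheme.Modules.pullback (snd X T).left).obj M) ≅
        (Scheme.Modules.pullback (ThetaGrp.transl X x ≫ fst X T).left).obj L) := by
  rw [factors_iff hL hK]
  constructor
  · rintro ⟨n, hn⟩
    obtain ⟨M, hM, rfl⟩ := PicGrp.exists_eq_cls n
    exact ⟨M, hM, (transTriv_iff_iso hL x hM).mp hn⟩
  · rintro ⟨M, hM, h⟩
    exact ⟨_, (transTriv_iff_iso hL x hM).mpr h⟩

include hL in
theorem eq_pullback_of_iso {T : Over S} (x : T ⟶ X) (M : T.left.Modules)
    (h : Nonempty (CohB1.tensorMod ((Scheme.Modules.pullback (fst X T).left).obj L)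
          ((Scheme.Modules.pullback (snd X T).left).obj M) ≅
        (Scheme.Modules.pullback (ThetaGrp.transl X x ≫ fst X T).left).obj L)) :
    Nonempty (M ≅ (Scheme.Modules.pullback x.left).obj L) := by
  let s : T ⟶ X ⊗ T := lift (toUnit T ≫ η[X]) (𝟙 T)
  haveI : Subsingleton (𝟙_ (Over S)).left := ‹Subsingleton S›
  haveI : Nonempty (𝟙_ (Over S)).left := ‹Nonempty S›
  have e : s ≫ (ThetaGrp.transl X x ≫ fst X T) = x := by
    rw [ThetaGrp.transl_fst, MonObj.comp_mul, lift_fst, lift_snd_assoc, Category.id_comp,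
      MonObj.one_eq_one, MonObj.comp_one, _root_.one_mul]
  rw [← PicGrp.cl_eq_cl_iff] at h ⊢
  have h' := congrArg (PicF.pullCl s.left) h
  rw [← PicGrp.mulCl_cl, Groth.Agent.Lib.TensorMod.Pullback.pullCl_mulCl,
    ← PicLoc.pullCl_cl, ← PicLoc.pullCl_cl, ← PicLoc.pullCl_cl, ← PicLoc.pullCl_comp,
    ← PicLoc.pullCl_comp, ← PicLoc.pullCl_comp, ← Over.comp_left, ← Over.comp_left,
    ← Over.comp_left, e, lift_fst, lift_snd] at h'
  have hone : PicF.pullCl (toUnit T ≫ η[X]).left (PicF.cl L) = PicF.cl (Coh.structureModule T.left) := by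
    have := congrArg Subtype.val ((ph_comp (toUnit T) η[X] (PicGrp.cls L hL)).trans
      (by rw [eq_one_of_subsingleton (ph η[X] (PicGrp.cls L hL)), map_one]))
    rwa [PicGrp.one_val, ph_val] at this
  rw [hone, Over.id_left, PicLoc.pullCl_id] at h'
  rw [← PicLoc.pullCl_cl, ← h', PicGrp.mulCl_cl]
  exact (PicGrp.cl_eq_cl_iff _ _).mpr ⟨(Groth.Agent.Lib.TensorMod.Basic.leftUnit M).symm⟩

include hL hK in
theorem isLambdaSheaf_structureModule :
    AgPol.IsLambdaSheaf ((X ◁ i) ≫ μ[X]).left (fst X K).left (snd X K ≫ i).left L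
      (Coh.structureModule (X ⊗ K).left) := by
  obtain ⟨n, hn⟩ := (factors_iff hL hK i).mp ⟨𝟙 _, Category.id_comp _⟩
  have hne := hn.eq_pullback
  subst hne
  unfold AgPol.IsLambdaSheaf
  rw [iso_iff (cl_tensor (cl_tensor (a := 1) PicGrp.one_val.symm
      (cl_pullback (fst X K) (a := PicGrp.cls L hL) rfl))
      (cl_pullback (snd X K ≫ i) (a := PicGrp.cls L hL) rfl))
    (cl_pullback ((X ◁ i) ≫ μ[X]) (a := PicGrp.cls L hL) rfl), _root_.one_mul, comp_transl_fst,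
    ph_comp (snd X K) i]
  exact hn.symm

include hL hK in
theorem points_group (T : Over S) :
    (∀ y₁ y₂ : T ⟶ K, ∃ y : T ⟶ K, y ≫ i = (y₁ ≫ i) * (y₂ ≫ i)) ∧
      (∃ y : T ⟶ K, y ≫ i = 1) ∧
      (∀ y₁ : T ⟶ K, ∃ y : T ⟶ K, y ≫ i = (y₁ ≫ i)⁻¹) := by
  refine ⟨fun y₁ y₂ => ?_, ?_, fun y₁ => ?_⟩
  · obtain ⟨m, hm⟩ := (factors_iff hL hK (y₁ ≫ i)).mp ⟨y₁, rfl⟩
    obtain ⟨n, hn⟩ := (factors_iff hL hK (y₂ ≫ i)).mp ⟨y₂, rfl⟩
    exact (factors_iff hL hK _).mpr ⟨_, hm.mul hn⟩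
  · exact (factors_iff hL hK _).mpr ⟨_, TransTriv.one _ T⟩
  · obtain ⟨m, hm⟩ := (factors_iff hL hK (y₁ ≫ i)).mp ⟨y₁, rfl⟩
    exact (factors_iff hL hK _).mpr ⟨_, hm.inv⟩

include hL hK in
theorem tensor_invPullback_trivial (B : Over S) [GrpObj B] (j : B ⟶ X) [IsMonHom j]
    (hj : ∃ y : B ⟶ K, y ≫ i = j) :
    Nonempty (CohB1.tensorMod ((Scheme.Modules.pullback j.left).obj L)
        ((Scheme.Modules.pullback ((𝟙 B)⁻¹ ≫ j).left).obj L) ≅ Coh.structureModule B.left) := by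
  haveI : Subsingleton (𝟙_ (Over S)).left := ‹Subsingleton S›
  haveI : Nonempty (𝟙_ (Over S)).left := ‹Nonempty S›
  obtain ⟨n, hn⟩ := (factors_iff hL hK j).mp hj
  have hne := hn.eq_pullback
  subst hne
  have h := congrArg (ph (lift ((𝟙 B)⁻¹ ≫ j) (𝟙 B))) hn
  rw [map_mul, ← ph_comp, ← ph_comp, ← ph_comp, lift_fst, lift_snd, ph_id, ThetaGrp.transl_fst,
    MonObj.comp_mul, lift_fst, lift_snd_assoc, Category.id_comp] at h
  have e : (𝟙 B)⁻¹ ≫ j * j = toUnit B ≫ η[X] := by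
    rw [GrpObj.inv_comp, Category.id_comp, inv_mul_cancel, MonObj.one_eq_one, MonObj.comp_one]
  rw [e, ph_comp, eq_one_of_subsingleton (ph η[X] (PicGrp.cls L hL)), map_one] at h
  rw [iso_iff (cl_tensor (cl_pullback j (a := PicGrp.cls L hL) rfl)
      (cl_pullback ((𝟙 B)⁻¹ ≫ j) (a := PicGrp.cls L hL) rfl)) PicGrp.one_val.symm, mul_comm]
  exact h.symm

end Groth.Agent.H3.KLBasics
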