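import Groth.Agent.H3.Scalars
import Groth.Prelude.Def_PicLoc

/-!
Transport of points of theta groups along morphisms, and commutation of points.
-/

set_option autoImplicit false

universe u

open CategoryTheory MonoidalCategory CartesianMonoidalCategory MonObj AlgebraicGeometry Opposite
open Pseudofunctor Bicategory

namespace Groth.Agent.H3.ThetaMaps

variable {a b c : CoGrothendieck (ThetaGrp.modPF.{u})}

theorem isIso_fiber_comp (h : a ⟶ b) (g : b ⟶ c) (hh : IsIso h.fiber) (hg : IsIso g.fiber) :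
    IsIso (h ≫ g).fiber := by
  let F := ThetaGrp.modPF.{u}
  have hr : IsIso ((F.map h.base.op.toLoc).toFunctor.map g.fiber ≫
      (F.mapComp g.base.op.toLoc h.base.op.toLoc).inv.toNatTrans.app c.fiber) :=
    @IsIso.comp_isIso _ _ _ _ _ _ _ (Functor.map_isIso _ g.fiber)
      ((Cat.Hom.toNatIso (F.mapComp g.base.op.toLoc h.base.op.toLoc)).symm.app c.fiber).isIso_hom
  exact @IsIso.comp_isIso _ _ _ _ _ _ _ hh hr

theorem isIso_fiber_of_comp (h : a ⟶ b) (g : b ⟶ c) (hg : IsIso g.fiber)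
    (hhg : IsIso (h ≫ g).fiber) : IsIso h.fiber := by
  let F := ThetaGrp.modPF.{u}
  have hr : IsIso ((F.map h.base.op.toLoc).toFunctor.map g.fiber ≫
      (F.mapComp g.base.op.toLoc h.base.op.toLoc).inv.toNatTrans.app c.fiber) :=
    @IsIso.comp_isIso _ _ _ _ _ _ _ (Functor.map_isIso _ g.fiber)
      ((Cat.Hom.toNatIso (F.mapComp g.base.op.toLoc h.base.op.toLoc)).symm.app c.fiber).isIso_hom
  exact @IsIso.of_isIso_comp_right _ _ _ _ _ _ _ hr hhg

section Transport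

variable {S : Scheme.{u}} {A B : Over S} [GrpObj A] [GrpObj B]
  {L : A.left.Modules} {M : B.left.Modules} {T T' : Over S}

theorem isIso_fiber_pt (γ : ThetaGrp.thetaPts A L T) : IsIso γ.1.hom.fiber :=
  ThetaPts.isIso_fiber γ.1.hom

/-- Lift a point along a morphism with invertible fibre. -/
theorem exists_lift (P : ThetaGrp.thetaObj A L T ⟶ ThetaGrp.thetaObj B M T') (hP : IsIso P.fiber)
    (γ : ThetaGrp.thetaPts B M T') {x : T ⟶ A} {y : T' ⟶ B} (hy : ThetaGrp.IsOverPt γ y)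
    (hxy : (ThetaGrp.transl A x).left ≫ P.base = P.base ≫ (ThetaGrp.transl B y).left) :
    ∃ β : ThetaGrp.thetaPts A L T, ThetaGrp.IsOverPt β x ∧ β.1.hom ≫ P = P ≫ γ.1.hom := by
  have hk : (P ≫ γ.1.hom).base = (ThetaGrp.transl A x).left ≫ P.base := by
    rw [CoGrothendieck.categoryStruct_comp_base, hy, hxy]
  obtain ⟨h, ⟨hb, hc⟩, -⟩ := Cartesian.exists_unique_lift P hP (ThetaGrp.transl A x).left
    (P ≫ γ.1.hom) hk
  have hf : IsIso h.fiber := isIso_fiber_of_comp h P hP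
    (by rw [hc]; exact isIso_fiber_comp P _ hP (isIso_fiber_pt γ))
  have hbi : IsIso h.base := by rw [hb]; exact ThetaPts.isIso_transl x
  have : IsIso h := CoGrothIso.isIso_of_base_fiber h hbi hf
  exact ⟨⟨asIso h, x, hb⟩, hb, hc⟩

theorem comp_eq_of_lift {P : ThetaGrp.thetaObj A L T ⟶ ThetaGrp.thetaObj B M T'}
    {β₁ β₂ : ThetaGrp.thetaPts A L T} {γ₁ γ₂ : ThetaGrp.thetaPts B M T'}
    (h₁ : β₁.1.hom ≫ P = P ≫ γ₁.1.hom) (h₂ : β₂.1.hom ≫ P = P ≫ γ₂.1.hom) :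
    (β₁ * β₂).1.hom ≫ P = P ≫ (γ₁ * γ₂).1.hom := by
  show (β₂.1.hom ≫ β₁.1.hom) ≫ P = P ≫ γ₂.1.hom ≫ γ₁.1.hom
  rw [Category.assoc, h₁, ← Category.assoc, h₂, Category.assoc]

end Transport

section Commute

variable {k : Type u} [Field k] {A B : Over (Spec (CommRingCat.of k))}
  [GrpObj A] [IsProper A.hom] [GeometricallyIntegral A.hom] [GrpObj B]
  {L : A.left.Modules} {M : B.left.Modules} {T T' : Over (Spec (CommRingCat.of k))}

/-- Multiplying by functions does not affect commutation. -/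
theorem commute_act {β₁ β₂ β₁' β₂' : ThetaGrp.thetaPts A L T} {r₁ r₂ : Γ((A ⊗ T).left, ⊤)}
    (h₁ : β₁.1.hom = Scalars.act r₁ β₁'.1.hom) (h₂ : β₂.1.hom = Scalars.act r₂ β₂'.1.hom)
    (h : β₁' * β₂' = β₂' * β₁') : β₁ * β₂ = β₂ * β₁ := by
  obtain ⟨x₁, hx₁⟩ := β₁'.2
  obtain ⟨x₂, hx₂⟩ := β₂'.2
  apply Subtype.ext
  apply Aut.ext
  show β₂.1.hom ≫ β₁.1.hom = β₁.1.hom ≫ β₂.1.hom
  have h' : β₂'.1.hom ≫ β₁'.1.hom = β₁'.1.hom ≫ β₂'.1.hom :=
    congrArg (fun g : ThetaGrp.thetaPts A L T => g.1.hom) h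
  rw [h₁, h₂, Scalars.act_comp, Scalars.comp_act, Scalars.act_act, Scalars.act_comp,
    Scalars.comp_act, Scalars.act_act, hx₁, hx₂, Scalars.transl_appTop, Scalars.transl_appTop, h',
    _root_.mul_comm]

/-- The scalar relating two points over the same point. -/
theorem exists_act (hL : PicF.IsInvertible L) {β β' : ThetaGrp.thetaPts A L T} {x : T ⟶ A}
    (h : ThetaGrp.IsOverPt β x) (h' : ThetaGrp.IsOverPt β' x) :
    ∃ r, β.1.hom = Scalars.act r β'.1.hom :=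
  Scalars.exists_eq_act (a := ThetaGrp.thetaObj A L T)
    (PicLoc.isInvertible_pullback _ hL) β'.1.hom β.1.hom (isIso_fiber_pt β') (h.trans h'.symm)

variable [IsCommMonObj A]

/-- The scalar measuring non-commutation of two points. -/
theorem exists_commutator (hL : PicF.IsInvertible L) (β₁ β₂ : ThetaGrp.thetaPts A L T) :
    ∃ r : Γ((A ⊗ T).left, ⊤), (β₁ * β₂).1.hom = Scalars.act r (β₂ * β₁).1.hom := by
  obtain ⟨x₁, hx₁⟩ := β₁.2
  obtain ⟨x₂, hx₂⟩ := β₂.2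
  exact exists_act hL (Cartesian.overPt_mul hx₁ hx₂)
    (by rw [_root_.mul_comm]; exact Cartesian.overPt_mul hx₂ hx₁)

theorem eq_of_act {β γ : ThetaGrp.thetaPts A L T} {r : Γ((A ⊗ T).left, ⊤)}
    (h : β.1.hom = Scalars.act r γ.1.hom) (hr : r = 1) : β = γ :=
  Subtype.ext (Aut.ext (by rw [h, hr, Scalars.act_one]))

variable [IsCommMonObj B]

omit [IsCommMonObj B] in
/-- If lifts commute, the scalar of non-commutation becomes `1` after pullback. -/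
theorem appTop_eq_one_of_lift (hL : PicF.IsInvertible L)
    (P : ThetaGrp.thetaObj A L T ⟶ ThetaGrp.thetaObj B M T') (hP : IsIso P.fiber)
    {β₁ β₂ : ThetaGrp.thetaPts A L T} {γ₁ γ₂ : ThetaGrp.thetaPts B M T'}
    (h₁ : β₁.1.hom ≫ P = P ≫ γ₁.1.hom) (h₂ : β₂.1.hom ≫ P = P ≫ γ₂.1.hom)
    (hc : β₁ * β₂ = β₂ * β₁) {r : Γ((B ⊗ T').left, ⊤)}
    (hr : (γ₁ * γ₂).1.hom = Scalars.act r (γ₂ * γ₁).1.hom) : P.base.appTop.hom r = 1 := by
  have e := comp_eq_of_lift h₁ h₂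
  rw [hc, comp_eq_of_lift h₂ h₁, hr, Scalars.comp_act] at e
  refine Scalars.act_injective (a := ThetaGrp.thetaObj A L T) (PicLoc.isInvertible_pullback _ hL)
    (h := P ≫ (γ₂ * γ₁).1.hom) (isIso_fiber_comp P _ hP (isIso_fiber_pt _)) ?_
  rw [Scalars.act_one]
  exact e.symm

omit [IsCommMonObj B] in
theorem lift_commute (P : ThetaGrp.thetaObj A L T ⟶ ThetaGrp.thetaObj B M T') (hP : IsIso P.fiber)
    {β₁ β₂ : ThetaGrp.thetaPts A L T} {γ₁ γ₂ : ThetaGrp.thetaPts B M T'}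
    (h₁ : β₁.1.hom ≫ P = P ≫ γ₁.1.hom) (h₂ : β₂.1.hom ≫ P = P ≫ γ₂.1.hom)
    (hc : γ₁ * γ₂ = γ₂ * γ₁) : β₁ * β₂ = β₂ * β₁ := by
  obtain ⟨x₁, hx₁⟩ := β₁.2
  obtain ⟨x₂, hx₂⟩ := β₂.2
  apply Subtype.ext
  apply Aut.ext
  refine Cartesian.eq_of_comp_eq P hP ?_ ?_
  · rw [Cartesian.overPt_mul (β := β₁) (γ := β₂) hx₁ hx₂,
      Cartesian.overPt_mul (β := β₂) (γ := β₁) hx₂ hx₁, _root_.mul_comm]
  · rw [comp_eq_of_lift h₁ h₂, comp_eq_of_lift h₂ h₁, hc]

omit [GrpObj B] [IsCommMonObj B] in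
theorem bcLift_fiber_isIso (g : T' ⟶ T) : IsIso (ThetaGrp.bcLift A L g).fiber :=
  isIso_fiber_of_comp _ (Cartesian.toBase L T)
    (show IsIso (𝟙 ((Scheme.Modules.pullback (fst A T).left).obj L)) from inferInstance)
    (by rw [Cartesian.bcLift_toBase]
        exact (show IsIso (𝟙 ((Scheme.Modules.pullback (fst A T').left).obj L)) from inferInstance))

omit [GrpObj B] [IsCommMonObj B] [IsProper A.hom] [GeometricallyIntegral A.hom] [IsCommMonObj A] in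
theorem bcLift_transl (g : T' ⟶ T) (x : T ⟶ A) :
    (ThetaGrp.transl A (g ≫ x)).left ≫ (ThetaGrp.bcLift A L g).base =
      (ThetaGrp.bcLift A L g).base ≫ (ThetaGrp.transl A x).left := by
  show (ThetaGrp.transl A (g ≫ x)).left ≫ (A ◁ g).left = (A ◁ g).left ≫ (ThetaGrp.transl A x).left
  rw [← Over.comp_left, ← Over.comp_left]
  congr 1
  apply CartesianMonoidalCategory.hom_ext
  · simp only [Category.assoc, whiskerLeft_fst, ThetaGrp.transl_fst, MonObj.comp_mul,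
      whiskerLeft_snd_assoc]
  · simp only [Category.assoc, whiskerLeft_snd, ThetaGrp.transl_snd]
    rw [← Category.assoc, ThetaGrp.transl_snd]

omit [GrpObj B] [IsCommMonObj B] in
/-- Commutation can be checked on an open cover of the base. -/
theorem commute_of_local (hL : PicF.IsInvertible L) {β₁ β₂ : ThetaGrp.thetaPts A L T}
    {x₁ x₂ : T ⟶ A} (hx₁ : ThetaGrp.IsOverPt β₁ x₁) (hx₂ : ThetaGrp.IsOverPt β₂ x₂)
    (h : ∀ t : T.left, ∃ U : T.left.Opens, t ∈ U ∧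
      ∀ γ₁ γ₂ : ThetaGrp.thetaPts A L (Over.mk (U.ι ≫ T.hom)),
        ThetaGrp.IsOverPt γ₁ ((Over.homMk U.ι rfl : Over.mk (U.ι ≫ T.hom) ⟶ T) ≫ x₁) →
        ThetaGrp.IsOverPt γ₂ ((Over.homMk U.ι rfl : Over.mk (U.ι ≫ T.hom) ⟶ T) ≫ x₂) →
        γ₁ * γ₂ = γ₂ * γ₁) : β₁ * β₂ = β₂ * β₁ := by
  obtain ⟨r, hr⟩ := exists_commutator hL β₁ β₂
  refine eq_of_act hr ?_
  let σ := (lift (toUnit T ≫ η[A]) (𝟙 T)).left
  suffices hσ : σ.appTop.hom r = 1 by
    rw [Scalars.eq_snd_appTop T r, hσ, map_one]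
  choose U hU hcomm using h
  refine T.left.sheaf.eq_of_locally_eq' U ⊤ (fun t => homOfLE le_top)
    (fun t _ => TopologicalSpace.Opens.mem_iSup.mpr ⟨t, hU t⟩) _ _ fun t => ?_
  let g : Over.mk ((U t).ι ≫ T.hom) ⟶ T := Over.homMk (U t).ι rfl
  let P := ThetaGrp.bcLift A L g
  obtain ⟨γ₁, hγ₁, e₁⟩ := exists_lift P (bcLift_fiber_isIso g) β₁ hx₁ (bcLift_transl g x₁)
  obtain ⟨γ₂, hγ₂, e₂⟩ := exists_lift P (bcLift_fiber_isIso g) β₂ hx₂ (bcLift_transl g x₂)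
  have h1 := appTop_eq_one_of_lift hL P (bcLift_fiber_isIso g) e₁ e₂ (hcomm t γ₁ γ₂ hγ₁ hγ₂) hr
  have hsq : (lift (toUnit (Over.mk ((U t).ι ≫ T.hom)) ≫ η[A]) (𝟙 _)) ≫ (A ◁ g) =
      g ≫ lift (toUnit T ≫ η[A]) (𝟙 T) := by
    apply CartesianMonoidalCategory.hom_ext <;> simp
  have h2 := congrArg (fun c => (lift (toUnit (Over.mk ((U t).ι ≫ T.hom)) ≫ η[A]) (𝟙 _)).left.appTop.hom c) h1
  rw [map_one, ← CommRingCat.comp_apply, ← Scheme.Hom.comp_appTop] at h2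
  change (((lift (toUnit (Over.mk ((U t).ι ≫ T.hom)) ≫ η[A]) (𝟙 _)) ≫ (A ◁ g)).left).appTop.hom r = 1
    at h2
  rw [hsq, Over.comp_left, Scheme.Hom.comp_appTop, CommRingCat.comp_apply] at h2
  change (U t).ι.appTop.hom (σ.appTop.hom r) = 1 at h2
  have h3 := congrArg (U t).topIso.hom.hom h2
  rw [map_one, ← CommRingCat.comp_apply] at h3
  show T.left.presheaf.map _ (σ.appTop.hom r) = T.left.presheaf.map _ 1
  rw [map_one]
  convert h3 using 1
  congr 1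
  simp [Scheme.Opens.topIso]
  rw [← CommRingCat.hom_comp]
  refine congrArg CommRingCat.Hom.hom ?_
  exact (congrArg T.left.presheaf.map (Subsingleton.elim _ _)).trans (T.left.presheaf.map_comp _ _)

end Commute

end Groth.Agent.H3.ThetaMaps
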