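import Groth.Agent.H3.KLBasics
import Groth.Agent.H3.CoGrothIso

set_option autoImplicit false

universe u

open CategoryTheory MonoidalCategory CartesianMonoidalCategory MonObj AlgebraicGeometry Opposite
open Pseudofunctor Bicategory

namespace Groth.Agent.H3.ThetaPts

open Groth.Agent.H3.PicCalc

section Fiber

variable {a c : CoGrothendieck (ThetaGrp.modPF.{u})}

theorem isSplitMono_of_eq {C : Type*} [Category C] {X Y Z W : C} {f : X ⟶ Y} {g : Y ⟶ W}
    {h : X ⟶ Z} {p : Z = W} (e : f ≫ g = h ≫ eqToHom p) (hh : IsIso h) : IsSplitMono f := by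
  subst p
  exact ⟨⟨g ≫ inv h, by rw [← Category.assoc, e]; simp⟩⟩

theorem epi_comp_eqToHom {C : Type*} [Category C] {X Z W : C}
    {h : X ⟶ Z} (hh : IsIso h) (p : Z = W) : Epi (h ≫ eqToHom p) := by
  subst p
  rw [eqToHom_refl, Category.comp_id]
  infer_instance

theorem isIso_fiber (f : a ⟶ c) [hf : IsIso f] : IsIso f.fiber := by
  let F := ThetaGrp.modPF.{u}
  have hb : IsIso f.base := (CoGrothendieck.forget F).map_isIso f
  have hg : IsIso (inv f).base := (CoGrothendieck.forget F).map_isIso (inv f)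
  have e1 := CoGrothendieck.Hom.congr (IsIso.hom_inv_id f)
  have e2 := CoGrothendieck.Hom.congr (IsIso.inv_hom_id f)
  simp only [CoGrothendieck.categoryStruct_comp_fiber, CoGrothendieck.categoryStruct_id_fiber] at e1 e2
  have hm : IsSplitMono f.fiber := by
    have hr : IsIso ((F.mapId ⟨op a.base⟩).inv.toNatTrans.app a.fiber) :=
      ((Cat.Hom.toNatIso (F.mapId ⟨op a.base⟩)).symm.app a.fiber).isIso_hom
    exact isSplitMono_of_eq e1 hr
  let G := (F.map (inv f).base.op.toLoc).toFunctor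
  haveI : G.IsEquivalence := CoGrothIso.isEquivalence_pullback (inv f).base
  let mc := F.mapComp f.base.op.toLoc (inv f).base.op.toLoc
  have hc : IsIso (mc.inv.toNatTrans.app c.fiber) :=
    ((Cat.Hom.toNatIso mc).symm.app c.fiber).isIso_hom
  have hr' : IsIso ((F.mapId ⟨op c.base⟩).inv.toNatTrans.app c.fiber) :=
    ((Cat.Hom.toNatIso (F.mapId ⟨op c.base⟩)).symm.app c.fiber).isIso_hom
  have h3 : Epi ((inv f).fiber ≫ G.map f.fiber ≫ mc.inv.toNatTrans.app c.fiber) := by
    rw [e2]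
    exact epi_comp_eqToHom hr' _
  have h4 : Epi (G.map f.fiber ≫ mc.inv.toNatTrans.app c.fiber) := epi_of_epi (inv f).fiber _
  have h5 : Epi (G.map f.fiber) := by
    have h := epi_comp (G.map f.fiber ≫ mc.inv.toNatTrans.app c.fiber) (inv (mc.inv.toNatTrans.app c.fiber))
    rwa [Category.assoc, IsIso.hom_inv_id, Category.comp_id] at h
  have h6 : Epi f.fiber := G.epi_of_epi_map h5
  exact isIso_of_epi_of_isSplitMono f.fiber

end Fiber

variable {S : Scheme.{u}} {A : Over S} [GrpObj A]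

theorem isIso_transl {T : Over S} (x : T ⟶ A) : IsIso (ThetaGrp.transl A x).left := by
  have : IsIso (ThetaGrp.transl A x) := ⟨ThetaGrp.transl A x⁻¹, by
    rw [← ThetaGrp.transl_mul, mul_inv_cancel, ThetaGrp.transl_one], by
    rw [← ThetaGrp.transl_mul, inv_mul_cancel, ThetaGrp.transl_one]⟩
  exact ((Over.forget _).mapIso (asIso (ThetaGrp.transl A x))).isIso_hom

variable [∀ Y : Scheme.{u}, PicGrp.Law Y] {L : A.left.Modules} (hL : PicF.IsInvertible L)

include hL in
theorem exists_thetaPt_iff {T : Over S} (x : T ⟶ A) :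
    (∃ β : ThetaGrp.thetaPts A L T, ThetaGrp.IsOverPt β x) ↔
      TransTriv A (PicGrp.cls L hL) x 1 := by
  have key : TransTriv A (PicGrp.cls L hL) x 1 ↔
      Nonempty ((Scheme.Modules.pullback (fst A T).left).obj L ≅
        (Scheme.Modules.pullback (ThetaGrp.transl A x).left).obj
          ((Scheme.Modules.pullback (fst A T).left).obj L)) := by
    rw [iso_iff (cl_pullback (fst A T) (a := PicGrp.cls L hL) rfl)
      (cl_pullback (ThetaGrp.transl A x) (cl_pullback (fst A T) (a := PicGrp.cls L hL) rfl)),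
      ← ph_comp, TransTriv, map_one, _root_.mul_one]
    exact eq_comm
  rw [key]
  constructor
  · rintro ⟨β, hβ⟩
    have := isIso_fiber β.1.hom
    exact ⟨(asIso β.1.hom.fiber : _ ≅ _) ≪≫ eqToIso (by
      show (Scheme.Modules.pullback β.1.hom.base).obj _ = _
      rw [hβ])⟩
  · rintro ⟨e⟩
    let h : ThetaGrp.thetaObj A L T ⟶ ThetaGrp.thetaObj A L T := ⟨(ThetaGrp.transl A x).left, e.hom⟩
    have : IsIso h :=
      CoGrothIso.isIso_of_base_fiber h (isIso_transl x) e.isIso_hom
    exact ⟨⟨asIso h, x, rfl⟩, rfl⟩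

theorem TransTriv_comp {l : PicLoc.PicSet A.left} {T U : Over S} {x : T ⟶ A}
    {n : PicLoc.PicSet T.left} (hx : TransTriv A l x n) (g : U ⟶ T) :
    TransTriv A l (g ≫ x) (ph g n) := by
  unfold TransTriv at *
  have h := congrArg (ph (A ◁ g)) hx
  rw [map_mul, ← ph_comp, ← ph_comp, ← ph_comp, whiskerLeft_fst, whiskerLeft_snd,
    ← comp_transl_fst x, ← Category.assoc, ← MonoidalCategory.whiskerLeft_comp, comp_transl_fst,
    ph_comp (snd A U) g] at h
  exact h

variable {K : Over S} {iK : K ⟶ A}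

include hL in
theorem factors_iff_local [Subsingleton S] [Nonempty S] (hK : ThetaGrp.IsKL A L iK) {T : Over S}
    (x : T ⟶ A) :
    (∃ y : T ⟶ K, y ≫ iK = x) ↔
      ∀ t : T.left, ∃ U : T.left.Opens, t ∈ U ∧
        ∃ β : ThetaGrp.thetaPts A L (Over.mk (U.ι ≫ T.hom)),
          ThetaGrp.IsOverPt β ((Over.homMk U.ι rfl : Over.mk (U.ι ≫ T.hom) ⟶ T) ≫ x) := by
  constructor
  · intro hx t
    obtain ⟨n, hn⟩ := (KLBasics.factors_iff hL hK x).mp hx
    obtain ⟨M, hM, rfl⟩ := PicGrp.exists_eq_cls n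
    obtain ⟨U, hU, ⟨e⟩⟩ := hM t
    refine ⟨U, hU, (exists_thetaPt_iff hL _).mpr ?_⟩
    let g : Over.mk (U.ι ≫ T.hom) ⟶ T := Over.homMk U.ι rfl
    have hg : ph g (PicGrp.cls M hM) = 1 := by
      refine Subtype.ext ?_
      rw [ph_val, PicGrp.one_val, PicGrp.cls_val, PicLoc.pullCl_cl]
      exact (PicGrp.cl_eq_cl_iff _ _).mpr
        ⟨((Scheme.Modules.restrictFunctorIsoPullback U.ι).symm.app M) ≪≫ e⟩
    have h := TransTriv_comp hn g
    rwa [hg] at h
  · intro h
    choose U hU β hβ using h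
    have hy : ∀ t, ∃ y : Over.mk ((U t).ι ≫ T.hom) ⟶ K,
        y ≫ iK = (Over.homMk (U t).ι rfl : Over.mk ((U t).ι ≫ T.hom) ⟶ T) ≫ x := fun t =>
      (KLBasics.factors_iff hL hK _).mpr
        ⟨1, (exists_thetaPt_iff hL _).mp ⟨β t, hβ t⟩⟩
    choose y hy using hy
    have hy' : ∀ t, (y t).left ≫ iK.left = (U t).ι ≫ x.left := fun t => congrArg Over.Hom.left (hy t)
    have hcov : TopologicalSpace.IsOpenCover U := by
      rw [TopologicalSpace.IsOpenCover, eq_top_iff]
      intro t _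
      exact TopologicalSpace.Opens.mem_iSup.mpr ⟨t, hU t⟩
    haveI : IsClosedImmersion iK.left := hK.closed
    let 𝒰 := T.left.openCoverOfIsOpenCover U hcov
    let g : T.left ⟶ K.left := 𝒰.glueMorphisms (fun t => (y t).left) (fun s t => by
      rw [← cancel_mono iK.left, Category.assoc, Category.assoc]
      erw [hy', hy']
      exact Limits.pullback.condition_assoc x.left)
    have hg : g ≫ iK.left = x.left := by
      refine 𝒰.hom_ext _ _ fun t => ?_
      rw [← Category.assoc, Scheme.Cover.ι_glueMorphisms]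
      exact hy' t
    exact ⟨Over.homMk g (by rw [← Over.w iK, ← Category.assoc, hg, Over.w]), Over.OverMorphism.ext hg⟩

end Groth.Agent.H3.ThetaPts
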